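import Cfsg.Agent.Lib.Chevalley.InvolCert.E8.Table

/-! Nodes 2880 to 2976 of the certificate of type E8. -/

set_option autoImplicit false

namespace Cfsg.Agent.Chevalley.InvolCert.E8

theorem range30_ok : rangeChk sys reps table 2880 96 = true := by decide +kernel

end Cfsg.Agent.Chevalley.InvolCert.E8
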