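import Cfsg.Agent.Lib.Chevalley.InvolCert.E8.Check0
import Cfsg.Agent.Lib.Chevalley.InvolCert.E8.Check1
import Cfsg.Agent.Lib.Chevalley.InvolCert.E8.Check2
import Cfsg.Agent.Lib.Chevalley.InvolCert.E8.Check3
import Cfsg.Agent.Lib.Chevalley.InvolCert.E8.Check4
import Cfsg.Agent.Lib.Chevalley.InvolCert.E8.Check5
import Cfsg.Agent.Lib.Chevalley.InvolCert.E8.Check6
import Cfsg.Agent.Lib.Chevalley.InvolCert.E8.Check7
import Cfsg.Agent.Lib.Chevalley.InvolCert.E8.Check8
import Cfsg.Agent.Lib.Chevalley.InvolCert.E8.Check9
import Cfsg.Agent.Lib.Chevalley.InvolCert.E8.Check10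
import Cfsg.Agent.Lib.Chevalley.InvolCert.E8.Check11
import Cfsg.Agent.Lib.Chevalley.InvolCert.E8.Check12
import Cfsg.Agent.Lib.Chevalley.InvolCert.E8.Check13
import Cfsg.Agent.Lib.Chevalley.InvolCert.E8.Check14
import Cfsg.Agent.Lib.Chevalley.InvolCert.E8.Check15
import Cfsg.Agent.Lib.Chevalley.InvolCert.E8.Check16
import Cfsg.Agent.Lib.Chevalley.InvolCert.E8.Check17
import Cfsg.Agent.Lib.Chevalley.InvolCert.E8.Check18
import Cfsg.Agent.Lib.Chevalley.InvolCert.E8.Check19
import Cfsg.Agent.Lib.Chevalley.InvolCert.E8.Check20
import Cfsg.Agent.Lib.Chevalley.InvolCert.E8.Check21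
import Cfsg.Agent.Lib.Chevalley.InvolCert.E8.Check22
import Cfsg.Agent.Lib.Chevalley.InvolCert.E8.Check23
import Cfsg.Agent.Lib.Chevalley.InvolCert.E8.Check24
import Cfsg.Agent.Lib.Chevalley.InvolCert.E8.Check25
import Cfsg.Agent.Lib.Chevalley.InvolCert.E8.Check26
import Cfsg.Agent.Lib.Chevalley.InvolCert.E8.Check27
import Cfsg.Agent.Lib.Chevalley.InvolCert.E8.Check28
import Cfsg.Agent.Lib.Chevalley.InvolCert.E8.Check29
import Cfsg.Agent.Lib.Chevalley.InvolCert.E8.Check30
import Cfsg.Agent.Lib.Chevalley.InvolCert.E8.Check31
import Cfsg.Agent.Lib.Chevalley.InvolCert.E8.Check32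
import Cfsg.Agent.Lib.Chevalley.InvolCert.E8.Check33
import Cfsg.Agent.Lib.Chevalley.InvolCert.E8.Check34
import Cfsg.Agent.Lib.Chevalley.InvolCert.E8.Check35
import Cfsg.Agent.Lib.Chevalley.InvolCert.E8.Check36
import Cfsg.Agent.Lib.Chevalley.InvolCert.E8.Check37
import Cfsg.Agent.Lib.Chevalley.InvolCert.E8.Check38
import Cfsg.Agent.Lib.Chevalley.InvolCert.E8.Check39
import Cfsg.Agent.Lib.Chevalley.InvolCert.E8.Check40
import Cfsg.Agent.Lib.Chevalley.InvolCert.E8.Check41
import Cfsg.Agent.Lib.Chevalley.InvolCert.E8.Check42
import Cfsg.Agent.Lib.Chevalley.InvolCert.E8.Check43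
import Cfsg.Agent.Lib.Chevalley.InvolCert.E8.Check44
import Cfsg.Agent.Lib.Chevalley.InvolCert.E8.Check45
import Cfsg.Agent.Lib.Chevalley.InvolCert.E8.Check46
import Cfsg.Agent.Lib.Chevalley.InvolCert.E8.Check47
import Cfsg.Agent.Lib.Chevalley.InvolCert.E8.Check48

/-! Every node of the certificate of type E8 is correct. -/

set_option autoImplicit false

namespace Cfsg.Agent.Chevalley.InvolCert.E8

theorem table_ok : ∀ i < 4680, nodeChk sys reps table i = true := fun i hi =>
  if h : i < 96 then rangeChk_spec range0_ok (by omega) (by omega) else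
  if h : i < 192 then rangeChk_spec range1_ok (by omega) (by omega) else
  if h : i < 288 then rangeChk_spec range2_ok (by omega) (by omega) else
  if h : i < 384 then rangeChk_spec range3_ok (by omega) (by omega) else
  if h : i < 480 then rangeChk_spec range4_ok (by omega) (by omega) else
  if h : i < 576 then rangeChk_spec range5_ok (by omega) (by omega) else
  if h : i < 672 then rangeChk_spec range6_ok (by omega) (by omega) else
  if h : i < 768 then rangeChk_spec range7_ok (by omega) (by omega) else
  if h : i < 864 then rangeChk_spec range8_ok (by omega) (by omega) else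
  if h : i < 960 then rangeChk_spec range9_ok (by omega) (by omega) else
  if h : i < 1056 then rangeChk_spec range10_ok (by omega) (by omega) else
  if h : i < 1152 then rangeChk_spec range11_ok (by omega) (by omega) else
  if h : i < 1248 then rangeChk_spec range12_ok (by omega) (by omega) else
  if h : i < 1344 then rangeChk_spec range13_ok (by omega) (by omega) else
  if h : i < 1440 then rangeChk_spec range14_ok (by omega) (by omega) else
  if h : i < 1536 then rangeChk_spec range15_ok (by omega) (by omega) else
  if h : i < 1632 then rangeChk_spec range16_ok (by omega) (by omega) else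
  if h : i < 1728 then rangeChk_spec range17_ok (by omega) (by omega) else
  if h : i < 1824 then rangeChk_spec range18_ok (by omega) (by omega) else
  if h : i < 1920 then rangeChk_spec range19_ok (by omega) (by omega) else
  if h : i < 2016 then rangeChk_spec range20_ok (by omega) (by omega) else
  if h : i < 2112 then rangeChk_spec range21_ok (by omega) (by omega) else
  if h : i < 2208 then rangeChk_spec range22_ok (by omega) (by omega) else
  if h : i < 2304 then rangeChk_spec range23_ok (by omega) (by omega) else
  if h : i < 2400 then rangeChk_spec range24_ok (by omega) (by omega) else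
  if h : i < 2496 then rangeChk_spec range25_ok (by omega) (by omega) else
  if h : i < 2592 then rangeChk_spec range26_ok (by omega) (by omega) else
  if h : i < 2688 then rangeChk_spec range27_ok (by omega) (by omega) else
  if h : i < 2784 then rangeChk_spec range28_ok (by omega) (by omega) else
  if h : i < 2880 then rangeChk_spec range29_ok (by omega) (by omega) else
  if h : i < 2976 then rangeChk_spec range30_ok (by omega) (by omega) else
  if h : i < 3072 then rangeChk_spec range31_ok (by omega) (by omega) else
  if h : i < 3168 then rangeChk_spec range32_ok (by omega) (by omega) else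
  if h : i < 3264 then rangeChk_spec range33_ok (by omega) (by omega) else
  if h : i < 3360 then rangeChk_spec range34_ok (by omega) (by omega) else
  if h : i < 3456 then rangeChk_spec range35_ok (by omega) (by omega) else
  if h : i < 3552 then rangeChk_spec range36_ok (by omega) (by omega) else
  if h : i < 3648 then rangeChk_spec range37_ok (by omega) (by omega) else
  if h : i < 3744 then rangeChk_spec range38_ok (by omega) (by omega) else
  if h : i < 3840 then rangeChk_spec range39_ok (by omega) (by omega) else
  if h : i < 3936 then rangeChk_spec range40_ok (by omega) (by omega) else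
  if h : i < 4032 then rangeChk_spec range41_ok (by omega) (by omega) else
  if h : i < 4128 then rangeChk_spec range42_ok (by omega) (by omega) else
  if h : i < 4224 then rangeChk_spec range43_ok (by omega) (by omega) else
  if h : i < 4320 then rangeChk_spec range44_ok (by omega) (by omega) else
  if h : i < 4416 then rangeChk_spec range45_ok (by omega) (by omega) else
  if h : i < 4512 then rangeChk_spec range46_ok (by omega) (by omega) else
  if h : i < 4608 then rangeChk_spec range47_ok (by omega) (by omega) else
  rangeChk_spec range48_ok (by omega) (by omega)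

theorem top_st : (table.get 4679).st = 1177898043185589553055531667161945677218322597917079305414404134195079850 := by decide +kernel

end Cfsg.Agent.Chevalley.InvolCert.E8
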