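import Cfsg.Agent.Lib.Chevalley.InvolCert.Chain
import Cfsg.Agent.Lib.Chevalley.Types.E8

/-! The commutator table of type E8 and the products linking the orthogonal sets. -/

set_option autoImplicit false
set_option maxHeartbeats 2000000
set_option maxRecDepth 100000

namespace Cfsg.Agent.Chevalley.InvolCert.E8

open Cfsg.Lie Cfsg.Agent.Chevalley

/-- The table. -/
def sys : Sys where
  D := chevE8
  base := 120
  N := 120
  rk := 8
  nr := 240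
  car := [[0,0,0,0,0,0,0,0,0,0,0,0,0,0,0,-1,-1,-1,-1,-1,-1,0,0,0,0,0,0,-1,-1,-1,-1,-1,-1,-1,-1,-1,-1,-1,-1,-1,-1,-1,2,1,1,1,1,1,1,1,1,1,1,1,1,1,1,1,1,1,1,1,1,1,0,0,0,0,0,0,0,0,0,0,0,0,0,0,0,0,0,0,0,0,0,0,0,0,0,0,0,0,0,0,0,0,0,0,0,-1,-1,-1,-1,-1,-1,-1,1,1,1,1,1,1,0,1,0,0,0,0,0,0],[0,0,0,0,0,0,0,0,0,0,-1,-1,-1,-1,-1,0,-1,-1,-1,-1,-1,2,1,1,1,1,1,1,1,1,1,1,0,0,0,0,0,0,0,0,0,0,0,0,-1,-1,-1,-1,-1,1,1,1,1,1,0,0,0,0,0,0,0,0,0,0,0,0,0,0,0,0,0,0,0,0,-1,-1,-1,-1,-1,-1,-1,-1,-1,-1,1,1,1,1,1,1,1,1,1,1,0,0,0,0,0,0,0,0,0,0,-1,1,0,0,0,0,0,-1,-1,1,1,0,0,0,0,0],[0,0,0,0,0,0,0,0,0,0,-1,-1,-1,-1,-1,2,1,1,1,1,1,0,-1,-1,-1,-1,-1,1,1,1,1,1,0,0,0,0,0,0,0,0,0,0,-1,1,0,0,0,0,0,0,0,0,0,0,-1,-1,-1,-1,-1,-1,-1,-1,-1,-1,1,1,1,1,1,1,1,1,1,1,0,0,0,0,0,0,0,0,0,0,0,0,0,0,0,0,0,0,0,0,-1,-1,-1,-1,-1,1,1,1,1,1,0,0,0,0,0,0,0,-1,1,-1,1,0,0,0,0,0],[0,0,0,0,0,0,-1,-1,-1,-1,2,1,1,1,1,-1,1,0,0,0,0,-1,1,0,0,0,0,0,-1,-1,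-1,-1,1,1,1,1,0,0,0,0,0,0,0,-1,1,0,0,0,0,0,-1,-1,-1,-1,1,1,1,1,0,0,0,0,0,0,0,0,0,0,-1,-1,-1,-1,-1,-1,1,1,1,1,1,1,0,0,0,0,0,0,0,0,0,0,-1,-1,-1,-1,1,1,1,1,0,0,0,0,0,-1,1,0,0,0,0,0,-1,1,0,0,-1,1,0,0,0,0],[0,0,0,-1,-1,-1,2,1,1,1,-1,1,0,0,0,0,-1,1,0,0,0,0,-1,1,0,0,0,-1,1,0,0,0,0,-1,-1,-1,1,1,1,0,0,0,0,0,-1,1,0,0,0,-1,1,0,0,0,0,-1,-1,-1,1,1,1,0,0,0,0,-1,-1,-1,1,1,1,0,0,0,0,0,0,-1,-1,-1,1,1,1,0,0,0,0,-1,-1,-1,1,1,1,0,0,0,0,-1,1,0,0,0,-1,1,0,0,0,0,0,-1,1,0,0,0,0,-1,1,0,0,0],[0,-1,-1,2,1,1,-1,1,0,0,0,-1,1,0,0,0,0,-1,1,0,0,0,0,-1,1,0,0,0,-1,1,0,0,-1,1,0,0,0,-1,-1,1,1,0,0,0,0,-1,1,0,0,0,-1,1,0,0,-1,1,0,0,0,-1,-1,1,1,0,-1,1,0,0,0,-1,-1,1,1,0,0,-1,-1,1,1,0,0,0,-1,1,0,-1,-1,1,1,0,0,0,-1,1,0,0,-1,1,0,0,0,-1,1,0,0,0,0,0,-1,1,0,0,0,0,0,0,-1,1,0,0],[-1,2,1,-1,1,0,0,-1,1,0,0,0,-1,1,0,0,0,0,-1,1,0,0,0,0,-1,1,0,0,0,-1,1,0,0,-1,1,0,-1,1,0,0,-1,1,0,0,0,0,-1,1,0,0,0,-1,1,0,0,-1,1,0,-1,1,0,0,-1,1,0,-1,1,0,-1,1,0,0,-1,1,-1,1,0,0,-1,1,0,-1,1,0,-1,1,0,0,-1,1,0,-1,1,0,0,-1,1,0,0,0,-1,1,0,0,0,0,0,-1,1,0,0,0,0,0,0,0,0,-1,1,0],[2,-1,1,0,-1,1,0,0,-1,1,0,0,0,-1,1,0,0,0,0,-1,1,0,0,0,0,-1,1,0,0,0,-1,1,0,0,-1,1,0,-1,1,-1,1,0,0,0,0,0,0,-1,1,0,0,0,-1,1,0,0,-1,1,0,-1,1,-1,1,0,0,0,-1,1,0,-1,1,-1,1,0,0,-1,1,-1,1,0,-1,1,0,0,0,-1,1,-1,1,0,-1,1,0,0,-1,1,0,0,0,-1,1,0,0,0,0,0,-1,1,0,0,0,0,0,0,0,0,0,0,-1,1]]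
  ref := [[0,1,2,3,4,5,14,7,15,16,17,18,19,20,6,8,9,10,11,12,13,21,22,23,24,25,26,27,28,29,30,31,32,33,34,35,36,37,38,39,40,41,42,43,44,45,46,47,48,49,50,51,52,53,54,55,78,79,80,81,82,83,84,85,86,87,88,89,90,91,92,99,100,101,102,103,104,162,56,57,58,59,60,61,62,63,64,65,66,67,68,69,70,93,94,95,96,97,98,71,72,73,74,75,76,105,106,107,108,109,110,111,112,113,114,115,116,117,118,119,120,121,122,123,124,125,126,127,128,129,130,131,132,133,134,163,164,165,166,167,168,141,142,143,144,145,146,169,170,171,172,173,174,175,176,177,178,179,180,181,182,183,77,135,136,137,138,139,140,147,148,149,150,151,152,153,154,155,156,157,158,159,160,161,184,185,186,187,188,189,190,191,192,193,194,195,196,197,198,199,200,201,202,203,204,205,206,207,208,209,210,211,212,213,214,215,216,217,218,226,227,228,229,230,231,233,219,220,221,222,223,224,232,225,234,235,236,237,238,239],[0,1,2,3,4,7,8,5,6,9,10,11,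12,13,15,14,16,17,18,19,20,21,22,23,24,25,36,37,38,39,40,41,42,43,44,45,26,27,28,29,30,31,32,33,34,35,46,47,48,49,50,51,52,53,54,55,56,57,58,59,60,61,62,63,64,65,71,72,73,74,75,66,67,68,69,70,76,77,78,79,80,81,82,83,84,85,86,87,99,100,101,102,103,105,106,107,108,109,141,88,89,90,91,92,104,93,94,95,96,97,110,111,112,113,114,115,116,117,118,119,120,121,122,123,124,125,126,127,128,129,142,143,144,145,146,135,147,148,149,150,151,98,130,131,132,133,134,136,137,138,139,140,152,153,154,155,156,157,158,159,160,161,162,163,169,170,171,172,173,164,165,166,167,168,174,175,176,177,178,179,180,181,182,183,184,185,186,187,188,189,190,191,192,193,204,205,206,207,208,209,210,211,212,213,194,195,196,197,198,199,200,201,202,203,214,215,216,217,218,219,220,221,222,223,225,224,226,227,228,229,230,233,234,231,232,235,236,237,238,239],[0,1,2,3,4,6,5,8,7,9,10,11,12,13,14,15,21,22,23,24,25,16,17,18,19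,20,26,27,28,29,30,31,32,33,34,35,36,37,38,39,40,41,42,43,44,45,56,57,58,59,60,61,62,63,64,65,46,47,48,49,50,51,52,53,54,55,66,67,68,69,70,71,72,73,74,75,77,76,78,79,80,81,82,83,84,85,86,87,93,94,95,96,97,88,89,90,91,92,98,105,106,107,108,109,135,99,100,101,102,103,110,111,112,113,114,115,116,117,118,119,120,121,122,123,124,125,126,127,128,129,136,137,138,139,140,104,130,131,132,133,134,141,147,148,149,150,151,142,143,144,145,146,152,153,154,155,156,157,158,159,160,161,163,162,164,165,166,167,168,169,170,171,172,173,184,185,186,187,188,189,190,191,192,193,174,175,176,177,178,179,180,181,182,183,194,195,196,197,198,199,200,201,202,203,204,205,206,207,208,209,210,211,212,213,219,220,221,222,223,214,215,216,217,218,224,225,226,227,228,229,230,232,231,234,233,235,236,237,238,239],[0,1,2,3,5,4,6,7,9,8,10,11,12,13,14,16,15,17,18,19,20,21,26,27,28,29,22,23,24,25,30,31,32,33,34,35,36,3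7,38,39,46,47,48,49,50,51,40,41,42,43,44,45,52,53,54,55,56,57,58,59,60,61,66,67,68,69,62,63,64,65,70,71,72,73,74,76,75,77,78,79,80,81,82,83,88,89,90,91,84,85,86,87,92,93,94,95,96,98,97,99,100,101,102,104,103,110,111,112,113,130,105,106,107,108,114,115,116,117,118,119,120,121,122,123,124,125,131,132,133,134,109,126,127,128,129,136,135,137,138,139,140,142,141,143,144,145,146,147,152,153,154,155,148,149,150,151,156,157,158,159,160,161,162,164,163,165,166,167,168,169,174,175,176,177,170,171,172,173,178,179,180,181,182,183,184,185,186,187,194,195,196,197,198,199,188,189,190,191,192,193,200,201,202,203,204,205,206,207,208,209,214,215,216,217,210,211,212,213,218,219,220,221,222,224,223,225,226,227,228,229,231,230,232,233,235,234,236,237,238,239],[0,1,2,4,3,5,6,7,8,10,9,11,12,13,14,15,17,16,18,19,20,22,21,23,24,25,26,30,31,32,27,28,29,33,34,35,36,40,41,42,37,38,39,43,44,45,46,47,48,52,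53,54,49,50,51,55,56,57,58,62,63,64,59,60,61,65,66,67,68,70,69,71,72,73,75,74,76,77,78,79,80,84,85,86,81,82,83,87,88,89,90,92,91,93,94,95,97,96,98,99,100,101,103,102,104,105,106,107,109,108,114,115,116,126,110,111,112,117,118,119,120,121,122,127,128,129,113,123,124,125,131,130,132,133,134,135,137,136,138,139,140,141,143,142,144,145,146,148,147,149,150,151,152,156,157,158,153,154,155,159,160,161,162,163,165,164,166,167,168,170,169,171,172,173,174,178,179,180,175,176,177,181,182,183,184,188,189,190,185,186,187,191,192,193,194,195,196,200,201,202,197,198,199,203,204,205,206,210,211,212,207,208,209,213,214,215,216,218,217,219,220,221,223,222,224,225,226,227,228,230,229,231,232,233,234,236,235,237,238,239],[0,1,3,2,4,5,6,7,8,9,11,10,12,13,14,15,16,18,17,19,20,21,23,22,24,25,27,26,28,29,30,33,34,31,32,35,37,36,38,39,40,43,44,41,42,45,46,49,50,47,48,51,52,53,55,54,56,59,60,57,58,61,62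,63,65,64,66,67,69,68,70,71,72,74,73,75,76,77,78,81,82,79,80,83,84,85,87,86,88,89,91,90,92,93,94,96,95,97,98,99,100,102,101,103,104,105,106,108,107,109,110,111,113,112,117,118,123,114,115,119,120,124,125,116,121,122,127,126,128,129,130,132,131,133,134,135,136,138,137,139,140,141,142,144,143,145,146,147,149,148,150,151,153,152,154,155,156,159,160,157,158,161,162,163,164,166,165,167,168,169,171,170,172,173,175,174,176,177,178,181,182,179,180,183,185,184,186,187,188,191,192,189,190,193,194,197,198,195,196,199,200,201,203,202,204,207,208,205,206,209,210,211,213,212,214,215,217,216,218,219,220,222,221,223,224,225,226,227,229,228,230,231,232,233,234,235,237,236,238,239],[0,2,1,3,4,5,6,7,8,9,10,12,11,13,14,15,16,17,19,18,20,21,22,24,23,25,26,28,27,29,31,30,32,33,35,34,36,38,37,39,41,40,42,43,45,44,47,46,48,49,51,50,52,54,53,55,57,56,58,59,61,60,62,64,63,65,66,68,67,69,70,71,73,72,74,7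5,76,77,79,78,80,81,83,82,84,86,85,87,88,90,89,91,92,93,95,94,96,97,98,99,101,100,102,103,104,105,107,106,108,109,110,112,111,113,114,116,115,119,121,117,122,118,120,124,123,125,126,128,127,129,130,131,133,132,134,135,136,137,139,138,140,141,142,143,145,144,146,147,148,150,149,151,152,154,153,155,157,156,158,159,161,160,162,163,164,165,167,166,168,169,170,172,171,173,174,176,175,177,179,178,180,181,183,182,184,186,185,187,189,188,190,191,193,192,195,194,196,197,199,198,200,202,201,203,205,204,206,207,209,208,210,212,211,213,214,216,215,217,218,219,221,220,222,223,224,225,226,228,227,229,230,231,232,233,234,235,236,238,237,239],[1,0,2,3,4,5,6,7,8,9,10,11,13,12,14,15,16,17,18,20,19,21,22,23,25,24,26,27,29,28,30,32,31,34,33,35,36,37,39,38,40,42,41,44,43,45,46,48,47,50,49,51,53,52,54,55,56,58,57,60,59,61,63,62,64,65,67,66,68,69,70,72,71,73,74,75,76,77,78,80,79,82,81,83,85,84,86,87,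89,88,90,91,92,94,93,95,96,97,98,100,99,101,102,103,104,106,105,107,108,109,111,110,112,113,115,114,116,118,117,120,119,122,121,123,125,124,126,127,129,128,130,131,132,134,133,135,136,137,138,140,139,141,142,143,144,146,145,147,148,149,151,150,152,153,155,154,156,158,157,160,159,161,162,163,164,165,166,168,167,169,170,171,173,172,174,175,177,176,178,180,179,182,181,183,184,185,187,186,188,190,189,192,191,193,194,196,195,198,197,199,201,200,202,203,204,206,205,208,207,209,211,210,212,213,215,214,216,217,218,220,219,221,222,223,224,225,227,226,228,229,230,231,232,233,234,235,236,237,239,238]]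
  mask := 245682650657631353091171014474777259534529650081750793911286546841351138905319872814376497973669522091230965637775988462739842947106441569718695796342454759573174567998947786800037477451763287097332510245759538345419658352217932814977483645134651215978455793203063225441831330373970463789497603720121603038207099729241399313368042435602508855620065230619479999158558170738941718608834495541566378032599867844561984190340700659254597088382144622924048452152052488676956261148062530632223411908892630936927254382208277540666384397996782990811609836732868473255608571535790567837501910517844981232762838234007779216951603016917806711786668532138519303181583232989830406252936438631079014880364946851975964486618765046651106710949110609306195729269610631328210727031012441634816663157319742667136003667826258220639965031974168775724079518325379614252538557703345695912403877109070473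43209004017856917275056491954916054490737488134332116324557011978166976961317347373592224735264487058253913820573752905978888330128655678274415699101994047624888359213944315461597793895582173724963115689432561398549235012300319553610487270517270168436942671314684412597870670316764480096944379292056969791779333087969900047075093749700489836324415299831284957165323599286721465403738585466554964177716549981726024817786439375823582120422767344952581678729801178812163548476525620575572698979808782294786555970413112401820535894715003776284875426947455896625308148680011857253342243564430277554466771696231018976845014647218088020334266414467681161470041491898904303273366136473784485036808006920825435729176521269548407521618611249070745999225739698991246310437195834580587165777488657486146128873289866399293465238572776481182171901337439767494834233674910832999019700972433899921394386496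12478615936210122891569048432632811836090506941093428370622680505655941939039017953815873625563128534353034602506816843845973366452952093626270637626345833076674952562450870640856310855643609464235816904771291029007187290917052931116556449275182595904488698611784879380060169892087841706804499564402433806242908910032557432938648024478599039173912255223251995295896703613634151969974369148844882368451317465546769929449147271294748000312237584336653500112777944348817591067437651228202569870252303188801245183370176536505194665540977391945730230367549007314402259511715524190250309386212099727813888204023579863707550180648872521189658211106677206996919318191498301570282446625403921150819791019999796889292621155568717633242677037043563275278740030928766471616822614548805329452471796089996853198295364616908858142102700581943397686601114996808470602275513434450109760817630816772037441827208705627464465497614987328464952811511882330335092888215281154741842857098683726663824870202724460271821821158835724482513451876072592105853789756666710398615555484405882181226039887334020009965322945499167328253875885020679758686853377789101194382630952594437493510390843655434409138243675477913064360949252220013927407235756374662337181862270936511837270075515154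
  tbl := [
    [[],[(2,1,1)],[],[],[(5,1,1)],[],[],[],[(9,1,1)],[],[],[],[],[(14,1,1)],[],[],[],[],[],[(20,1,1)],[],[],[],[],[],[(26,1,1)],[],[],[],[],[(31,1,1)],[],[],[],[(35,1,1)],[],[],[(38,1,1)],[],[(40,1,1)],[],[],[],[],[],[],[],[(48,1,1)],[],[],[],[],[(53,1,1)],[],[],[],[(57,1,1)],[],[],[(60,1,1)],[],[(62,1,1)],[],[],[],[],[(67,1,1)],[],[],[(70,1,1)],[],[(72,1,1)],[],[],[],[(76,1,1)],[],[(78,1,1)],[],[],[(81,1,1)],[],[],[],[],[(86,1,1)],[],[(88,1,1)],[],[],[(91,1,1)],[],[],[],[(95,1,1)],[],[],[],[],[(100,1,1)],[],[],[],[],[],[],[(107,1,1)],[],[],[],[],[],[],[],[],[],[],[],[(119,1,1)],[]],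
    [[],[],[],[(4,1,1)],[],[],[],[(8,1,1)],[],[],[],[],[(13,1,1)],[],[],[],[],[],[(19,1,1)],[],[],[],[],[],[(25,1,1)],[],[],[],[],[(30,1,1)],[],[],[],[(34,1,1)],[],[],[(37,1,1)],[],[],[],[(41,1,1)],[],[],[],[],[],[(47,1,1)],[],[],[],[],[(52,1,1)],[],[],[],[(56,1,1)],[],[],[(59,1,1)],[],[],[],[(63,1,1)],[],[],[(66,1,1)],[],[],[(69,1,1)],[],[],[],[(73,1,1)],[],[(75,1,1)],[],[],[],[(79,1,1)],[],[],[(82,1,1)],[],[],[(85,1,1)],[],[],[],[(89,1,1)],[],[],[(92,1,1)],[],[],[],[(96,1,1)],[],[],[],[],[(101,1,1)],[],[],[],[],[],[],[(108,1,1)],[],[],[],[],[],[],[],[],[],[(118,1,1)],[],[]],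
    [[],[],[],[(5,1,1)],[],[],[],[(9,1,1)],[],[],[],[],[(14,1,1)],[],[],[],[],[],[(20,1,1)],[],[],[],[],[],[(26,1,1)],[],[],[],[],[(31,1,1)],[],[],[],[(35,1,1)],[],[],[(38,1,1)],[],[],[(41,1,1)],[],[],[],[],[],[],[(48,1,1)],[],[],[],[],[(53,1,1)],[],[],[],[(57,1,1)],[],[],[(60,1,1)],[],[],[(63,1,1)],[],[],[],[(67,1,1)],[],[],[(70,1,1)],[],[],[(73,1,1)],[],[],[(76,1,1)],[],[],[(79,1,1)],[],[],[(82,1,1)],[],[],[],[(86,1,1)],[],[],[(89,1,1)],[],[],[(92,1,1)],[],[],[],[(96,1,1)],[],[],[],[],[(101,1,1)],[],[],[],[],[],[],[(108,1,1)],[],[],[],[],[],[],[],[],[],[],[(119,1,1)],[],[]],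
    [[],[],[],[],[],[],[(7,1,1)],[],[],[],[],[(12,1,1)],[],[],[],[],[],[(18,1,1)],[],[],[],[],[],[(24,1,1)],[],[],[],[],[(29,1,1)],[],[],[],[(33,1,1)],[],[],[],[],[(39,1,1)],[(40,1,1)],[],[],[],[],[],[],[(46,1,1)],[],[],[],[],[(51,1,1)],[],[],[],[(55,1,1)],[],[],[],[],[(61,1,1)],[(62,1,1)],[],[],[],[(65,1,1)],[],[],[],[],[(71,1,1)],[(72,1,1)],[],[],[],[],[(77,1,1)],[(78,1,1)],[],[],[],[],[],[(83,1,1)],[],[],[(87,1,1)],[(88,1,1)],[],[],[],[],[],[(93,1,1)],[],[],[],[(97,1,1)],[],[],[],[],[(102,1,1)],[],[],[],[],[],[],[(109,1,1)],[],[],[],[],[],[],[],[(117,1,1)],[],[],[]],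
    [[],[],[],[],[],[],[(8,1,1)],[],[],[],[],[(13,1,1)],[],[],[],[],[],[(19,1,1)],[],[],[],[],[],[(25,1,1)],[],[],[],[],[(30,1,1)],[],[],[],[(34,1,1)],[],[],[],[(39,1,1)],[],[(41,1,1)],[],[],[],[],[],[],[(47,1,1)],[],[],[],[],[(52,1,1)],[],[],[],[(56,1,1)],[],[],[],[(61,1,1)],[],[(63,1,1)],[],[],[],[(66,1,1)],[],[],[],[(71,1,1)],[],[(73,1,1)],[],[],[],[(77,1,1)],[],[(79,1,1)],[],[],[],[],[(83,1,1)],[],[],[(87,1,1)],[],[(89,1,1)],[],[],[],[],[(93,1,1)],[],[],[],[(97,1,1)],[],[],[],[],[(102,1,1)],[],[],[],[],[],[],[(109,1,1)],[],[],[],[],[],[],[],[],[(118,1,1)],[],[],[]],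
    [[],[],[],[],[],[],[(9,1,1)],[],[],[],[],[(14,1,1)],[],[],[],[],[],[(20,1,1)],[],[],[],[],[],[(26,1,1)],[],[],[],[],[(31,1,1)],[],[],[],[(35,1,1)],[],[],[],[(40,1,1)],[(41,1,1)],[],[],[],[],[],[],[],[(48,1,1)],[],[],[],[],[(53,1,1)],[],[],[],[(57,1,1)],[],[],[],[(62,1,1)],[(63,1,1)],[],[],[],[],[(67,1,1)],[],[],[],[(72,1,1)],[(73,1,1)],[],[],[],[],[(78,1,1)],[(79,1,1)],[],[],[],[],[(83,1,1)],[],[],[],[(88,1,1)],[(89,1,1)],[],[],[],[],[(93,1,1)],[],[],[],[(97,1,1)],[],[],[],[],[(102,1,1)],[],[],[],[],[],[],[(109,1,1)],[],[],[],[],[],[],[],[],[],[(119,1,1)],[],[],[]],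
    [[],[],[],[],[],[],[],[],[],[],[(11,1,1)],[],[],[],[],[],[(17,1,1)],[],[],[],[],[],[(23,1,1)],[],[],[],[],[(28,1,1)],[],[],[],[],[],[(36,1,1)],[(37,1,1)],[(38,1,1)],[],[],[],[],[],[],[],[],[(45,1,1)],[],[],[],[],[(50,1,1)],[],[],[],[],[],[(58,1,1)],[(59,1,1)],[(60,1,1)],[],[],[],[],[],[],[],[(68,1,1)],[(69,1,1)],[(70,1,1)],[],[],[],[],[],[],[],[],[],[(80,1,1)],[(81,1,1)],[(82,1,1)],[],[],[],[],[],[],[],[(90,1,1)],[(91,1,1)],[(92,1,1)],[],[],[],[],[],[],[],[(98,1,1)],[],[],[],[],[(103,1,1)],[],[],[],[],[],[],[(110,1,1)],[],[],[],[],[],[(116,1,1)],[],[],[],[]],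
    [[],[],[],[],[],[],[],[],[],[],[(12,1,1)],[],[],[],[],[],[(18,1,1)],[],[],[],[],[],[(24,1,1)],[],[],[],[],[(29,1,1)],[],[],[],[],[(36,1,1)],[],[(39,1,1)],[(40,1,1)],[],[],[],[],[],[],[],[],[(46,1,1)],[],[],[],[],[(51,1,1)],[],[],[],[],[(58,1,1)],[],[(61,1,1)],[(62,1,1)],[],[],[],[],[],[],[(68,1,1)],[],[(71,1,1)],[(72,1,1)],[],[],[],[],[],[],[],[(80,1,1)],[(81,1,1)],[],[],[(83,1,1)],[],[],[],[],[],[(90,1,1)],[(91,1,1)],[],[],[(93,1,1)],[],[],[],[],[],[],[(98,1,1)],[],[],[],[],[(103,1,1)],[],[],[],[],[],[],[(110,1,1)],[],[],[],[],[],[],[(117,1,1)],[],[],[],[]],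
    [[],[],[],[],[],[],[],[],[],[],[(13,1,1)],[],[],[],[],[],[(19,1,1)],[],[],[],[],[],[(25,1,1)],[],[],[],[],[(30,1,1)],[],[],[],[],[(37,1,1)],[(39,1,1)],[],[(41,1,1)],[],[],[],[],[],[],[],[],[(47,1,1)],[],[],[],[],[(52,1,1)],[],[],[],[],[(59,1,1)],[(61,1,1)],[],[(63,1,1)],[],[],[],[],[],[],[(69,1,1)],[(71,1,1)],[],[(73,1,1)],[],[],[],[],[],[],[(80,1,1)],[],[(82,1,1)],[],[(83,1,1)],[],[],[],[],[],[(90,1,1)],[],[(92,1,1)],[],[(93,1,1)],[],[],[],[],[],[],[(98,1,1)],[],[],[],[],[(103,1,1)],[],[],[],[],[],[],[(110,1,1)],[],[],[],[],[],[],[],[(118,1,1)],[],[],[],[]],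
    [[],[],[],[],[],[],[],[],[],[],[(14,1,1)],[],[],[],[],[],[(20,1,1)],[],[],[],[],[],[(26,1,1)],[],[],[],[],[(31,1,1)],[],[],[],[],[(38,1,1)],[(40,1,1)],[(41,1,1)],[],[],[],[],[],[],[],[],[],[(48,1,1)],[],[],[],[],[(53,1,1)],[],[],[],[],[(60,1,1)],[(62,1,1)],[(63,1,1)],[],[],[],[],[],[],[],[(70,1,1)],[(72,1,1)],[(73,1,1)],[],[],[],[],[],[],[],[(81,1,1)],[(82,1,1)],[],[(83,1,1)],[],[],[],[],[],[],[(91,1,1)],[(92,1,1)],[],[(93,1,1)],[],[],[],[],[],[],[(98,1,1)],[],[],[],[],[(103,1,1)],[],[],[],[],[],[],[(110,1,1)],[],[],[],[],[],[],[],[],[(119,1,1)],[],[],[],[]],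
    [[],[],[],[],[],[],[],[],[],[],[],[],[],[],[],[(16,1,1)],[],[],[],[],[],[(22,1,1)],[],[],[],[],[],[],[(32,1,1)],[(33,1,1)],[(34,1,1)],[(35,1,1)],[],[],[],[],[],[],[],[],[],[],[],[(44,1,1)],[],[],[],[],[],[],[(54,1,1)],[(55,1,1)],[(56,1,1)],[(57,1,1)],[],[],[],[],[],[],[],[],[],[],[],[],[],[],[(74,1,1)],[(75,1,1)],[(76,1,1)],[(77,1,1)],[(78,1,1)],[(79,1,1)],[],[],[],[],[],[],[],[],[],[],[],[],[],[],[],[],[(94,1,1)],[(95,1,1)],[(96,1,1)],[(97,1,1)],[],[],[],[],[],[],[],[],[],[(104,1,1)],[],[],[],[],[],[],[(111,1,1)],[],[],[],[(115,1,1)],[],[],[],[],[]],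
    [[],[],[],[],[],[],[],[],[],[],[],[],[],[],[],[(17,1,1)],[],[],[],[],[],[(23,1,1)],[],[],[],[],[],[(32,1,1)],[],[(36,1,1)],[(37,1,1)],[(38,1,1)],[],[],[],[],[],[],[],[],[],[],[],[(45,1,1)],[],[],[],[],[],[(54,1,1)],[],[(58,1,1)],[(59,1,1)],[(60,1,1)],[],[],[],[],[],[],[],[],[],[],[],[(74,1,1)],[(75,1,1)],[(76,1,1)],[],[],[],[(80,1,1)],[(81,1,1)],[(82,1,1)],[],[],[],[],[],[],[],[],[],[],[],[],[],[(94,1,1)],[(95,1,1)],[(96,1,1)],[],[],[],[(98,1,1)],[],[],[],[],[],[],[],[],[(104,1,1)],[],[],[],[],[],[],[(111,1,1)],[],[],[],[],[(116,1,1)],[],[],[],[],[]],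
    [[],[],[],[],[],[],[],[],[],[],[],[],[],[],[],[(18,1,1)],[],[],[],[],[],[(24,1,1)],[],[],[],[],[],[(33,1,1)],[(36,1,1)],[],[(39,1,1)],[(40,1,1)],[],[],[],[],[],[],[],[],[],[],[],[(46,1,1)],[],[],[],[],[],[(55,1,1)],[(58,1,1)],[],[(61,1,1)],[(62,1,1)],[],[],[],[],[],[],[],[],[],[],[(74,1,1)],[],[(77,1,1)],[(78,1,1)],[],[(80,1,1)],[(81,1,1)],[],[],[(83,1,1)],[],[],[],[],[],[],[],[],[],[],[],[(94,1,1)],[(95,1,1)],[],[],[(97,1,1)],[],[],[(98,1,1)],[],[],[],[],[],[],[],[],[(104,1,1)],[],[],[],[],[],[],[(111,1,1)],[],[],[],[],[],[(117,1,1)],[],[],[],[],[]],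
    [[],[],[],[],[],[],[],[],[],[],[],[],[],[],[],[(19,1,1)],[],[],[],[],[],[(25,1,1)],[],[],[],[],[],[(34,1,1)],[(37,1,1)],[(39,1,1)],[],[(41,1,1)],[],[],[],[],[],[],[],[],[],[],[],[(47,1,1)],[],[],[],[],[],[(56,1,1)],[(59,1,1)],[(61,1,1)],[],[(63,1,1)],[],[],[],[],[],[],[],[],[],[],[(75,1,1)],[(77,1,1)],[],[(79,1,1)],[(80,1,1)],[],[(82,1,1)],[],[(83,1,1)],[],[],[],[],[],[],[],[],[],[],[],[(94,1,1)],[],[(96,1,1)],[],[(97,1,1)],[],[],[(98,1,1)],[],[],[],[],[],[],[],[],[(104,1,1)],[],[],[],[],[],[],[(111,1,1)],[],[],[],[],[],[],[(118,1,1)],[],[],[],[],[]],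
    [[],[],[],[],[],[],[],[],[],[],[],[],[],[],[],[(20,1,1)],[],[],[],[],[],[(26,1,1)],[],[],[],[],[],[(35,1,1)],[(38,1,1)],[(40,1,1)],[(41,1,1)],[],[],[],[],[],[],[],[],[],[],[],[],[(48,1,1)],[],[],[],[],[],[(57,1,1)],[(60,1,1)],[(62,1,1)],[(63,1,1)],[],[],[],[],[],[],[],[],[],[],[],[(76,1,1)],[(78,1,1)],[(79,1,1)],[],[(81,1,1)],[(82,1,1)],[],[(83,1,1)],[],[],[],[],[],[],[],[],[],[],[],[],[(95,1,1)],[(96,1,1)],[],[(97,1,1)],[],[],[(98,1,1)],[],[],[],[],[],[],[],[],[(104,1,1)],[],[],[],[],[],[],[(111,1,1)],[],[],[],[],[],[],[],[(119,1,1)],[],[],[],[],[]],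
    [[],[],[],[],[],[],[],[],[],[],[],[],[],[],[],[],[],[],[],[],[],[],[(27,1,1)],[(28,1,1)],[(29,1,1)],[(30,1,1)],[(31,1,1)],[],[],[],[],[],[],[],[],[],[],[],[],[],[],[],[(43,1,1)],[],[],[],[],[],[],[],[],[],[],[],[(64,1,1)],[(65,1,1)],[(66,1,1)],[(67,1,1)],[(68,1,1)],[(69,1,1)],[(70,1,1)],[(71,1,1)],[(72,1,1)],[(73,1,1)],[],[],[],[],[],[],[],[],[],[],[],[],[],[],[],[],[],[],[],[],[],[],[],[],[],[],[],[],[],[],[(99,1,1)],[(100,1,1)],[(101,1,1)],[(102,1,1)],[(103,1,1)],[],[],[],[],[],[],[],[],[],[],[],[],[(112,1,1)],[],[(114,1,1)],[],[],[],[],[],[]],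
    [[],[],[],[],[],[],[],[],[],[],[],[],[],[],[],[],[],[],[],[],[],[(27,1,1)],[],[(32,1,1)],[(33,1,1)],[(34,1,1)],[(35,1,1)],[],[],[],[],[],[],[],[],[],[],[],[],[],[],[],[(44,1,1)],[],[],[],[],[],[],[],[(64,1,1)],[(65,1,1)],[(66,1,1)],[(67,1,1)],[],[],[],[],[(74,1,1)],[(75,1,1)],[(76,1,1)],[(77,1,1)],[(78,1,1)],[(79,1,1)],[],[],[],[],[],[],[],[],[],[],[],[],[],[],[],[],[],[],[],[],[],[],[],[],[],[],[(99,1,1)],[(100,1,1)],[(101,1,1)],[(102,1,1)],[],[],[],[],[(104,1,1)],[],[],[],[],[],[],[],[],[],[],[],[(112,1,1)],[],[],[(115,1,1)],[],[],[],[],[],[]],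
    [[],[],[],[],[],[],[],[],[],[],[],[],[],[],[],[],[],[],[],[],[],[(28,1,1)],[(32,1,1)],[],[(36,1,1)],[(37,1,1)],[(38,1,1)],[],[],[],[],[],[],[],[],[],[],[],[],[],[],[],[(45,1,1)],[],[],[],[],[],[],[(64,1,1)],[],[(68,1,1)],[(69,1,1)],[(70,1,1)],[],[(74,1,1)],[(75,1,1)],[(76,1,1)],[],[],[],[(80,1,1)],[(81,1,1)],[(82,1,1)],[],[],[],[],[],[],[],[],[],[],[],[],[],[],[],[],[],[],[],[],[],[],[],[(99,1,1)],[(100,1,1)],[(101,1,1)],[],[],[],[(103,1,1)],[],[],[],[(104,1,1)],[],[],[],[],[],[],[],[],[],[],[],[(112,1,1)],[],[],[],[(116,1,1)],[],[],[],[],[],[]],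
    [[],[],[],[],[],[],[],[],[],[],[],[],[],[],[],[],[],[],[],[],[],[(29,1,1)],[(33,1,1)],[(36,1,1)],[],[(39,1,1)],[(40,1,1)],[],[],[],[],[],[],[],[],[],[],[],[],[],[],[],[(46,1,1)],[],[],[],[],[],[],[(65,1,1)],[(68,1,1)],[],[(71,1,1)],[(72,1,1)],[(74,1,1)],[],[(77,1,1)],[(78,1,1)],[],[(80,1,1)],[(81,1,1)],[],[],[(83,1,1)],[],[],[],[],[],[],[],[],[],[],[],[],[],[],[],[],[],[],[],[],[],[(99,1,1)],[(100,1,1)],[],[],[(102,1,1)],[],[],[(103,1,1)],[],[],[],[(104,1,1)],[],[],[],[],[],[],[],[],[],[],[],[(112,1,1)],[],[],[],[],[(117,1,1)],[],[],[],[],[],[]],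
    [[],[],[],[],[],[],[],[],[],[],[],[],[],[],[],[],[],[],[],[],[],[(30,1,1)],[(34,1,1)],[(37,1,1)],[(39,1,1)],[],[(41,1,1)],[],[],[],[],[],[],[],[],[],[],[],[],[],[],[],[(47,1,1)],[],[],[],[],[],[],[(66,1,1)],[(69,1,1)],[(71,1,1)],[],[(73,1,1)],[(75,1,1)],[(77,1,1)],[],[(79,1,1)],[(80,1,1)],[],[(82,1,1)],[],[(83,1,1)],[],[],[],[],[],[],[],[],[],[],[],[],[],[],[],[],[],[],[],[],[],[(99,1,1)],[],[(101,1,1)],[],[(102,1,1)],[],[],[(103,1,1)],[],[],[],[(104,1,1)],[],[],[],[],[],[],[],[],[],[],[],[(112,1,1)],[],[],[],[],[],[(118,1,1)],[],[],[],[],[],[]],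
    [[],[],[],[],[],[],[],[],[],[],[],[],[],[],[],[],[],[],[],[],[],[(31,1,1)],[(35,1,1)],[(38,1,1)],[(40,1,1)],[(41,1,1)],[],[],[],[],[],[],[],[],[],[],[],[],[],[],[],[],[(48,1,1)],[],[],[],[],[],[],[(67,1,1)],[(70,1,1)],[(72,1,1)],[(73,1,1)],[],[(76,1,1)],[(78,1,1)],[(79,1,1)],[],[(81,1,1)],[(82,1,1)],[],[(83,1,1)],[],[],[],[],[],[],[],[],[],[],[],[],[],[],[],[],[],[],[],[],[],[],[(100,1,1)],[(101,1,1)],[],[(102,1,1)],[],[],[(103,1,1)],[],[],[],[(104,1,1)],[],[],[],[],[],[],[],[],[],[],[],[(112,1,1)],[],[],[],[],[],[],[(119,1,1)],[],[],[],[],[],[]],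
    [[],[],[],[],[],[],[],[],[],[],[],[],[],[],[],[],[],[],[],[],[],[],[],[],[],[],[],[],[],[],[],[],[],[],[],[],[],[],[],[],[],[],[],[],[(49,1,1)],[(50,1,1)],[(51,1,1)],[(52,1,1)],[(53,1,1)],[],[],[],[],[],[],[],[],[],[],[],[],[],[],[],[],[],[],[],[],[],[],[],[],[],[(84,1,1)],[(85,1,1)],[(86,1,1)],[(87,1,1)],[(88,1,1)],[(89,1,1)],[(90,1,1)],[(91,1,1)],[(92,1,1)],[(93,1,1)],[],[],[],[],[],[],[],[],[],[],[],[],[],[],[],[],[],[],[],[],[(105,1,1)],[],[],[],[],[],[],[(113,1,1)],[(114,1,1)],[],[],[],[],[],[],[]],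
    [[],[],[],[],[],[],[],[],[],[],[],[],[],[],[],[],[],[],[],[],[],[],[],[],[],[],[],[],[],[],[],[],[],[],[],[],[],[],[],[],[],[],[],[(49,1,1)],[],[(54,1,1)],[(55,1,1)],[(56,1,1)],[(57,1,1)],[],[],[],[],[],[],[],[],[],[],[],[],[],[],[],[],[],[],[],[(84,1,1)],[(85,1,1)],[(86,1,1)],[(87,1,1)],[(88,1,1)],[(89,1,1)],[],[],[],[],[],[],[(94,1,1)],[(95,1,1)],[(96,1,1)],[(97,1,1)],[],[],[],[],[],[],[],[],[],[],[],[],[],[],[],[],[],[],[],[(105,1,1)],[],[],[],[],[],[],[(113,1,1)],[],[(115,1,1)],[],[],[],[],[],[],[]],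
    [[],[],[],[],[],[],[],[],[],[],[],[],[],[],[],[],[],[],[],[],[],[],[],[],[],[],[],[],[],[],[],[],[],[],[],[],[],[],[],[],[],[],[],[(50,1,1)],[(54,1,1)],[],[(58,1,1)],[(59,1,1)],[(60,1,1)],[],[],[],[],[],[],[],[],[],[],[],[],[],[],[],[],[(84,1,1)],[(85,1,1)],[(86,1,1)],[],[],[],[(90,1,1)],[(91,1,1)],[(92,1,1)],[],[],[],[(94,1,1)],[(95,1,1)],[(96,1,1)],[],[],[],[(98,1,1)],[],[],[],[],[],[],[],[],[],[],[],[],[],[],[],[],[],[],[(105,1,1)],[],[],[],[],[],[],[(113,1,1)],[],[],[(116,1,1)],[],[],[],[],[],[],[]],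
    [[],[],[],[],[],[],[],[],[],[],[],[],[],[],[],[],[],[],[],[],[],[],[],[],[],[],[],[],[],[],[],[],[],[],[],[],[],[],[],[],[],[],[],[(51,1,1)],[(55,1,1)],[(58,1,1)],[],[(61,1,1)],[(62,1,1)],[],[],[],[],[],[],[],[],[],[],[],[],[],[],[],[(84,1,1)],[],[(87,1,1)],[(88,1,1)],[],[(90,1,1)],[(91,1,1)],[],[],[(93,1,1)],[],[(94,1,1)],[(95,1,1)],[],[],[(97,1,1)],[],[],[(98,1,1)],[],[],[],[],[],[],[],[],[],[],[],[],[],[],[],[],[],[],[(105,1,1)],[],[],[],[],[],[],[(113,1,1)],[],[],[],[(117,1,1)],[],[],[],[],[],[],[]],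
    [[],[],[],[],[],[],[],[],[],[],[],[],[],[],[],[],[],[],[],[],[],[],[],[],[],[],[],[],[],[],[],[],[],[],[],[],[],[],[],[],[],[],[],[(52,1,1)],[(56,1,1)],[(59,1,1)],[(61,1,1)],[],[(63,1,1)],[],[],[],[],[],[],[],[],[],[],[],[],[],[],[],[(85,1,1)],[(87,1,1)],[],[(89,1,1)],[(90,1,1)],[],[(92,1,1)],[],[(93,1,1)],[],[(94,1,1)],[],[(96,1,1)],[],[(97,1,1)],[],[],[(98,1,1)],[],[],[],[],[],[],[],[],[],[],[],[],[],[],[],[],[],[],[(105,1,1)],[],[],[],[],[],[],[(113,1,1)],[],[],[],[],[(118,1,1)],[],[],[],[],[],[],[]],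
    [[],[],[],[],[],[],[],[],[],[],[],[],[],[],[],[],[],[],[],[],[],[],[],[],[],[],[],[],[],[],[],[],[],[],[],[],[],[],[],[],[],[],[],[(53,1,1)],[(57,1,1)],[(60,1,1)],[(62,1,1)],[(63,1,1)],[],[],[],[],[],[],[],[],[],[],[],[],[],[],[],[],[(86,1,1)],[(88,1,1)],[(89,1,1)],[],[(91,1,1)],[(92,1,1)],[],[(93,1,1)],[],[],[(95,1,1)],[(96,1,1)],[],[(97,1,1)],[],[],[(98,1,1)],[],[],[],[],[],[],[],[],[],[],[],[],[],[],[],[],[],[],[(105,1,1)],[],[],[],[],[],[],[(113,1,1)],[],[],[],[],[],[(119,1,1)],[],[],[],[],[],[],[]],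
    [[],[],[],[],[],[],[],[],[],[],[],[],[],[],[],[],[],[],[],[],[],[],[],[],[],[],[],[],[],[],[],[],[],[],[],[],[],[],[],[],[],[],[(49,1,1)],[],[],[(64,1,1)],[(65,1,1)],[(66,1,1)],[(67,1,1)],[],[],[],[],[],[],[],[],[],[(84,1,1)],[(85,1,1)],[(86,1,1)],[(87,1,1)],[(88,1,1)],[(89,1,1)],[],[],[],[],[],[],[],[],[],[],[],[],[],[],[],[],[(99,1,1)],[(100,1,1)],[(101,1,1)],[(102,1,1)],[],[],[],[],[],[],[],[],[],[],[],[],[],[],[(105,1,1)],[],[],[],[],[],[],[],[],[],[],[],[(114,1,1)],[(115,1,1)],[],[],[],[],[],[],[],[]],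
    [[],[],[],[],[],[],[],[],[],[],[],[],[],[],[],[],[],[],[],[],[],[],[],[],[],[],[],[],[],[],[],[],[],[],[],[],[],[],[],[],[],[],[(50,1,1)],[],[(64,1,1)],[],[(68,1,1)],[(69,1,1)],[(70,1,1)],[],[],[],[],[],[],[(84,1,1)],[(85,1,1)],[(86,1,1)],[],[],[],[(90,1,1)],[(91,1,1)],[(92,1,1)],[],[],[],[],[],[],[],[],[],[],[],[],[],[(99,1,1)],[(100,1,1)],[(101,1,1)],[],[],[],[(103,1,1)],[],[],[],[],[],[],[],[],[],[],[],[],[],[(105,1,1)],[],[],[],[],[],[],[],[],[],[],[],[(114,1,1)],[],[(116,1,1)],[],[],[],[],[],[],[],[]],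
    [[],[],[],[],[],[],[],[],[],[],[],[],[],[],[],[],[],[],[],[],[],[],[],[],[],[],[],[],[],[],[],[],[],[],[],[],[],[],[],[],[],[],[(51,1,1)],[],[(65,1,1)],[(68,1,1)],[],[(71,1,1)],[(72,1,1)],[],[],[],[],[],[(84,1,1)],[],[(87,1,1)],[(88,1,1)],[],[(90,1,1)],[(91,1,1)],[],[],[(93,1,1)],[],[],[],[],[],[],[],[],[],[],[],[(99,1,1)],[(100,1,1)],[],[],[(102,1,1)],[],[],[(103,1,1)],[],[],[],[],[],[],[],[],[],[],[],[],[],[(105,1,1)],[],[],[],[],[],[],[],[],[],[],[],[(114,1,1)],[],[],[(117,1,1)],[],[],[],[],[],[],[],[]],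
    [[],[],[],[],[],[],[],[],[],[],[],[],[],[],[],[],[],[],[],[],[],[],[],[],[],[],[],[],[],[],[],[],[],[],[],[],[],[],[],[],[],[],[(52,1,1)],[],[(66,1,1)],[(69,1,1)],[(71,1,1)],[],[(73,1,1)],[],[],[],[],[],[(85,1,1)],[(87,1,1)],[],[(89,1,1)],[(90,1,1)],[],[(92,1,1)],[],[(93,1,1)],[],[],[],[],[],[],[],[],[],[],[],[(99,1,1)],[],[(101,1,1)],[],[(102,1,1)],[],[],[(103,1,1)],[],[],[],[],[],[],[],[],[],[],[],[],[],[(105,1,1)],[],[],[],[],[],[],[],[],[],[],[],[(114,1,1)],[],[],[],[(118,1,1)],[],[],[],[],[],[],[],[]],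
    [[],[],[],[],[],[],[],[],[],[],[],[],[],[],[],[],[],[],[],[],[],[],[],[],[],[],[],[],[],[],[],[],[],[],[],[],[],[],[],[],[],[],[(53,1,1)],[],[(67,1,1)],[(70,1,1)],[(72,1,1)],[(73,1,1)],[],[],[],[],[],[],[(86,1,1)],[(88,1,1)],[(89,1,1)],[],[(91,1,1)],[(92,1,1)],[],[(93,1,1)],[],[],[],[],[],[],[],[],[],[],[],[],[(100,1,1)],[(101,1,1)],[],[(102,1,1)],[],[],[(103,1,1)],[],[],[],[],[],[],[],[],[],[],[],[],[],[(105,1,1)],[],[],[],[],[],[],[],[],[],[],[],[(114,1,1)],[],[],[],[],[(119,1,1)],[],[],[],[],[],[],[],[]],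
    [[],[],[],[],[],[],[],[],[],[],[],[],[],[],[],[],[],[],[],[],[],[],[],[],[],[],[],[],[],[],[],[],[],[],[],[],[],[],[],[],[],[],[(54,1,1)],[(64,1,1)],[],[],[(74,1,1)],[(75,1,1)],[(76,1,1)],[],[],[(84,1,1)],[(85,1,1)],[(86,1,1)],[],[],[],[],[],[],[],[(94,1,1)],[(95,1,1)],[(96,1,1)],[],[],[],[],[],[],[],[(99,1,1)],[(100,1,1)],[(101,1,1)],[],[],[],[],[],[],[],[],[],[(104,1,1)],[],[],[],[],[],[],[],[],[],[(105,1,1)],[],[],[],[],[],[],[],[],[],[],[],[],[],[],[],[(115,1,1)],[(116,1,1)],[],[],[],[],[],[],[],[],[]],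
    [[],[],[],[],[],[],[],[],[],[],[],[],[],[],[],[],[],[],[],[],[],[],[],[],[],[],[],[],[],[],[],[],[],[],[],[],[],[],[],[],[],[],[(55,1,1)],[(65,1,1)],[],[(74,1,1)],[],[(77,1,1)],[(78,1,1)],[],[(84,1,1)],[],[(87,1,1)],[(88,1,1)],[],[],[],[],[],[(94,1,1)],[(95,1,1)],[],[],[(97,1,1)],[],[],[],[],[],[(99,1,1)],[(100,1,1)],[],[],[(102,1,1)],[],[],[],[],[],[],[],[],[(104,1,1)],[],[],[],[],[],[],[],[],[],[(105,1,1)],[],[],[],[],[],[],[],[],[],[],[],[],[],[],[],[(115,1,1)],[],[(117,1,1)],[],[],[],[],[],[],[],[],[]],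
    [[],[],[],[],[],[],[],[],[],[],[],[],[],[],[],[],[],[],[],[],[],[],[],[],[],[],[],[],[],[],[],[],[],[],[],[],[],[],[],[],[],[],[(56,1,1)],[(66,1,1)],[],[(75,1,1)],[(77,1,1)],[],[(79,1,1)],[],[(85,1,1)],[(87,1,1)],[],[(89,1,1)],[],[],[],[],[(94,1,1)],[],[(96,1,1)],[],[(97,1,1)],[],[],[],[],[],[(99,1,1)],[],[(101,1,1)],[],[(102,1,1)],[],[],[],[],[],[],[],[],[(104,1,1)],[],[],[],[],[],[],[],[],[],[(105,1,1)],[],[],[],[],[],[],[],[],[],[],[],[],[],[],[],[(115,1,1)],[],[],[(118,1,1)],[],[],[],[],[],[],[],[],[]],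
    [[],[],[],[],[],[],[],[],[],[],[],[],[],[],[],[],[],[],[],[],[],[],[],[],[],[],[],[],[],[],[],[],[],[],[],[],[],[],[],[],[],[],[(57,1,1)],[(67,1,1)],[],[(76,1,1)],[(78,1,1)],[(79,1,1)],[],[],[(86,1,1)],[(88,1,1)],[(89,1,1)],[],[],[],[],[],[(95,1,1)],[(96,1,1)],[],[(97,1,1)],[],[],[],[],[],[],[(100,1,1)],[(101,1,1)],[],[(102,1,1)],[],[],[],[],[],[],[],[],[(104,1,1)],[],[],[],[],[],[],[],[],[],[(105,1,1)],[],[],[],[],[],[],[],[],[],[],[],[],[],[],[],[(115,1,1)],[],[],[],[(119,1,1)],[],[],[],[],[],[],[],[],[]],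
    [[],[],[],[],[],[],[],[],[],[],[],[],[],[],[],[],[],[],[],[],[],[],[],[],[],[],[],[],[],[],[],[],[],[],[],[],[],[],[],[],[],[],[(58,1,1)],[(68,1,1)],[(74,1,1)],[],[],[(80,1,1)],[(81,1,1)],[(84,1,1)],[],[],[(90,1,1)],[(91,1,1)],[],[],[(94,1,1)],[(95,1,1)],[],[],[],[],[],[(98,1,1)],[],[],[(99,1,1)],[(100,1,1)],[],[],[],[],[],[(103,1,1)],[],[],[],[],[],[(104,1,1)],[],[],[],[],[],[],[],[],[],[(105,1,1)],[],[],[],[],[],[],[],[],[],[],[],[],[],[],[],[],[],[],[(116,1,1)],[(117,1,1)],[],[],[],[],[],[],[],[],[],[]],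
    [[],[],[],[],[],[],[],[],[],[],[],[],[],[],[],[],[],[],[],[],[],[],[],[],[],[],[],[],[],[],[],[],[],[],[],[],[],[],[],[],[],[],[(59,1,1)],[(69,1,1)],[(75,1,1)],[],[(80,1,1)],[],[(82,1,1)],[(85,1,1)],[],[(90,1,1)],[],[(92,1,1)],[],[(94,1,1)],[],[(96,1,1)],[],[],[],[],[(98,1,1)],[],[],[(99,1,1)],[],[(101,1,1)],[],[],[],[],[(103,1,1)],[],[],[],[],[],[(104,1,1)],[],[],[],[],[],[],[],[],[],[(105,1,1)],[],[],[],[],[],[],[],[],[],[],[],[],[],[],[],[],[],[],[(116,1,1)],[],[(118,1,1)],[],[],[],[],[],[],[],[],[],[]],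
    [[],[],[],[],[],[],[],[],[],[],[],[],[],[],[],[],[],[],[],[],[],[],[],[],[],[],[],[],[],[],[],[],[],[],[],[],[],[],[],[],[],[],[(60,1,1)],[(70,1,1)],[(76,1,1)],[],[(81,1,1)],[(82,1,1)],[],[(86,1,1)],[],[(91,1,1)],[(92,1,1)],[],[],[(95,1,1)],[(96,1,1)],[],[],[],[],[(98,1,1)],[],[],[],[(100,1,1)],[(101,1,1)],[],[],[],[],[(103,1,1)],[],[],[],[],[],[(104,1,1)],[],[],[],[],[],[],[],[],[],[(105,1,1)],[],[],[],[],[],[],[],[],[],[],[],[],[],[],[],[],[],[],[(116,1,1)],[],[],[(119,1,1)],[],[],[],[],[],[],[],[],[],[]],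
    [[],[],[],[],[],[],[],[],[],[],[],[],[],[],[],[],[],[],[],[],[],[],[],[],[],[],[],[],[],[],[],[],[],[],[],[],[],[],[],[],[],[],[(61,1,1)],[(71,1,1)],[(77,1,1)],[(80,1,1)],[],[],[(83,1,1)],[(87,1,1)],[(90,1,1)],[],[],[(93,1,1)],[(94,1,1)],[],[],[(97,1,1)],[],[],[(98,1,1)],[],[],[],[(99,1,1)],[],[],[(102,1,1)],[],[],[(103,1,1)],[],[],[],[],[],[(104,1,1)],[],[],[],[],[],[],[],[],[],[(105,1,1)],[],[],[],[],[],[],[],[],[],[],[],[],[],[],[],[],[],[],[],[],[(117,1,1)],[(118,1,1)],[],[],[],[],[],[],[],[],[],[],[]],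
    [[],[],[],[],[],[],[],[],[],[],[],[],[],[],[],[],[],[],[],[],[],[],[],[],[],[],[],[],[],[],[],[],[],[],[],[],[],[],[],[],[],[],[(62,1,1)],[(72,1,1)],[(78,1,1)],[(81,1,1)],[],[(83,1,1)],[],[(88,1,1)],[(91,1,1)],[],[(93,1,1)],[],[(95,1,1)],[],[(97,1,1)],[],[],[(98,1,1)],[],[],[],[],[(100,1,1)],[],[(102,1,1)],[],[],[(103,1,1)],[],[],[],[],[],[(104,1,1)],[],[],[],[],[],[],[],[],[],[(105,1,1)],[],[],[],[],[],[],[],[],[],[],[],[],[],[],[],[],[],[],[],[],[(117,1,1)],[],[(119,1,1)],[],[],[],[],[],[],[],[],[],[],[]],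
    [[],[],[],[],[],[],[],[],[],[],[],[],[],[],[],[],[],[],[],[],[],[],[],[],[],[],[],[],[],[],[],[],[],[],[],[],[],[],[],[],[],[],[(63,1,1)],[(73,1,1)],[(79,1,1)],[(82,1,1)],[(83,1,1)],[],[],[(89,1,1)],[(92,1,1)],[(93,1,1)],[],[],[(96,1,1)],[(97,1,1)],[],[],[(98,1,1)],[],[],[],[],[],[(101,1,1)],[(102,1,1)],[],[],[(103,1,1)],[],[],[],[],[],[(104,1,1)],[],[],[],[],[],[],[],[],[],[(105,1,1)],[],[],[],[],[],[],[],[],[],[],[],[],[],[],[],[],[],[],[],[],[],[(118,1,1)],[(119,1,1)],[],[],[],[],[],[],[],[],[],[],[],[]],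
    [[],[],[],[],[],[],[],[],[],[],[],[],[],[],[],[],[],[],[],[],[],[],[],[],[],[],[],[],[],[],[],[],[],[],[],[],[],[],[],[],[],[],[],[],[],[],[],[],[],[],[],[],[],[],[],[],[],[],[],[],[],[],[],[],[],[],[],[],[],[],[],[],[],[],[],[],[],[],[],[],[],[],[],[],[],[],[],[],[],[],[],[],[],[],[],[],[],[],[],[(106,1,1)],[(107,1,1)],[(108,1,1)],[(109,1,1)],[(110,1,1)],[(111,1,1)],[(113,1,1)],[],[],[],[],[],[],[],[],[],[],[],[],[],[]],
    [[],[],[],[],[],[],[],[],[],[],[],[],[],[],[],[],[],[],[],[],[],[],[],[],[],[],[],[],[],[],[],[],[],[],[],[],[],[],[],[],[],[],[],[],[],[],[],[],[],[],[],[],[],[],[],[],[],[],[],[],[],[],[],[],[],[],[],[],[],[],[],[],[],[],[],[],[],[],[],[],[],[],[],[],[],[],[],[],[],[],[],[],[],[],[(106,1,1)],[(107,1,1)],[(108,1,1)],[(109,1,1)],[(110,1,1)],[],[],[],[],[],[(112,1,1)],[(114,1,1)],[],[],[],[],[],[],[],[],[],[],[],[],[],[]],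
    [[],[],[],[],[],[],[],[],[],[],[],[],[],[],[],[],[],[],[],[],[],[],[],[],[],[],[],[],[],[],[],[],[],[],[],[],[],[],[],[],[],[],[],[],[],[],[],[],[],[],[],[],[],[],[],[],[],[],[],[],[],[],[],[],[],[],[],[],[],[],[],[],[],[],[],[],[],[],[],[],[],[],[],[],[],[],[],[],[],[],[(106,1,1)],[(107,1,1)],[(108,1,1)],[(109,1,1)],[],[],[],[],[(111,1,1)],[],[],[],[],[(112,1,1)],[],[(115,1,1)],[],[],[],[],[],[],[],[],[],[],[],[],[],[]],
    [[],[],[],[],[],[],[],[],[],[],[],[],[],[],[],[],[],[],[],[],[],[],[],[],[],[],[],[],[],[],[],[],[],[],[],[],[],[],[],[],[],[],[],[],[],[],[],[],[],[],[],[],[],[],[],[],[],[],[],[],[],[],[],[],[],[],[],[],[],[],[],[],[],[],[],[],[],[],[],[],[],[],[],[],[],[],[],[(106,1,1)],[(107,1,1)],[(108,1,1)],[],[],[],[(110,1,1)],[],[],[],[(111,1,1)],[],[],[],[],[(112,1,1)],[],[],[(116,1,1)],[],[],[],[],[],[],[],[],[],[],[],[],[],[]],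
    [[],[],[],[],[],[],[],[],[],[],[],[],[],[],[],[],[],[],[],[],[],[],[],[],[],[],[],[],[],[],[],[],[],[],[],[],[],[],[],[],[],[],[],[],[],[],[],[],[],[],[],[],[],[],[],[],[],[],[],[],[],[],[],[],[],[],[],[],[],[],[],[],[],[],[],[],[],[],[],[],[],[],[],[],[],[(106,1,1)],[(107,1,1)],[],[],[(109,1,1)],[],[],[(110,1,1)],[],[],[],[(111,1,1)],[],[],[],[],[(112,1,1)],[],[],[],[(117,1,1)],[],[],[],[],[],[],[],[],[],[],[],[],[],[]],
    [[],[],[],[],[],[],[],[],[],[],[],[],[],[],[],[],[],[],[],[],[],[],[],[],[],[],[],[],[],[],[],[],[],[],[],[],[],[],[],[],[],[],[],[],[],[],[],[],[],[],[],[],[],[],[],[],[],[],[],[],[],[],[],[],[],[],[],[],[],[],[],[],[],[],[],[],[],[],[],[],[],[],[],[],[(106,1,1)],[],[(108,1,1)],[],[(109,1,1)],[],[],[(110,1,1)],[],[],[],[(111,1,1)],[],[],[],[],[(112,1,1)],[],[],[],[],[(118,1,1)],[],[],[],[],[],[],[],[],[],[],[],[],[],[]],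
    [[],[],[],[],[],[],[],[],[],[],[],[],[],[],[],[],[],[],[],[],[],[],[],[],[],[],[],[],[],[],[],[],[],[],[],[],[],[],[],[],[],[],[],[],[],[],[],[],[],[],[],[],[],[],[],[],[],[],[],[],[],[],[],[],[],[],[],[],[],[],[],[],[],[],[],[],[],[],[],[],[],[],[],[],[(107,1,1)],[(108,1,1)],[],[(109,1,1)],[],[],[(110,1,1)],[],[],[],[(111,1,1)],[],[],[],[],[(112,1,1)],[],[],[],[],[],[(119,1,1)],[],[],[],[],[],[],[],[],[],[],[],[],[],[]],
    [[],[],[],[],[],[],[],[],[],[],[],[],[],[],[],[],[],[],[],[],[],[],[],[],[],[],[],[],[],[],[],[],[],[],[],[],[],[],[],[],[],[],[],[],[],[],[],[],[],[],[],[],[],[],[],[],[],[],[],[],[],[],[],[],[],[],[],[],[],[],[],[],[],[],[],[],[],[],[],[],[(106,1,1)],[(107,1,1)],[(108,1,1)],[(109,1,1)],[],[],[],[],[],[],[],[],[],[],[],[],[],[],[(113,1,1)],[],[],[],[],[(114,1,1)],[(115,1,1)],[],[],[],[],[],[],[],[],[],[],[],[],[],[],[]],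
    [[],[],[],[],[],[],[],[],[],[],[],[],[],[],[],[],[],[],[],[],[],[],[],[],[],[],[],[],[],[],[],[],[],[],[],[],[],[],[],[],[],[],[],[],[],[],[],[],[],[],[],[],[],[],[],[],[],[],[],[],[],[],[],[],[],[],[],[],[],[],[],[],[],[],[],[],[],[(106,1,1)],[(107,1,1)],[(108,1,1)],[],[],[],[(110,1,1)],[],[],[],[],[],[],[],[],[],[],[],[],[],[(113,1,1)],[],[],[],[],[(114,1,1)],[],[(116,1,1)],[],[],[],[],[],[],[],[],[],[],[],[],[],[],[]],
    [[],[],[],[],[],[],[],[],[],[],[],[],[],[],[],[],[],[],[],[],[],[],[],[],[],[],[],[],[],[],[],[],[],[],[],[],[],[],[],[],[],[],[],[],[],[],[],[],[],[],[],[],[],[],[],[],[],[],[],[],[],[],[],[],[],[],[],[],[],[],[],[],[],[],[],[(106,1,1)],[(107,1,1)],[],[],[(109,1,1)],[],[],[(110,1,1)],[],[],[],[],[],[],[],[],[],[],[],[],[],[(113,1,1)],[],[],[],[],[(114,1,1)],[],[],[(117,1,1)],[],[],[],[],[],[],[],[],[],[],[],[],[],[],[]],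
    [[],[],[],[],[],[],[],[],[],[],[],[],[],[],[],[],[],[],[],[],[],[],[],[],[],[],[],[],[],[],[],[],[],[],[],[],[],[],[],[],[],[],[],[],[],[],[],[],[],[],[],[],[],[],[],[],[],[],[],[],[],[],[],[],[],[],[],[],[],[],[],[],[],[],[(106,1,1)],[],[(108,1,1)],[],[(109,1,1)],[],[],[(110,1,1)],[],[],[],[],[],[],[],[],[],[],[],[],[],[(113,1,1)],[],[],[],[],[(114,1,1)],[],[],[],[(118,1,1)],[],[],[],[],[],[],[],[],[],[],[],[],[],[],[]],
    [[],[],[],[],[],[],[],[],[],[],[],[],[],[],[],[],[],[],[],[],[],[],[],[],[],[],[],[],[],[],[],[],[],[],[],[],[],[],[],[],[],[],[],[],[],[],[],[],[],[],[],[],[],[],[],[],[],[],[],[],[],[],[],[],[],[],[],[],[],[],[],[],[],[],[(107,1,1)],[(108,1,1)],[],[(109,1,1)],[],[],[(110,1,1)],[],[],[],[],[],[],[],[],[],[],[],[],[],[(113,1,1)],[],[],[],[],[(114,1,1)],[],[],[],[],[(119,1,1)],[],[],[],[],[],[],[],[],[],[],[],[],[],[],[]],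
    [[],[],[],[],[],[],[],[],[],[],[],[],[],[],[],[],[],[],[],[],[],[],[],[],[],[],[],[],[],[],[],[],[],[],[],[],[],[],[],[],[],[],[],[],[],[],[],[],[],[],[],[],[],[],[],[],[],[],[],[],[],[],[],[],[],[],[],[],[],[],[],[(106,1,1)],[(107,1,1)],[(108,1,1)],[],[],[],[],[],[],[],[],[],[(111,1,1)],[],[],[],[],[],[],[],[],[],[(113,1,1)],[],[],[],[],[],[],[],[],[(115,1,1)],[(116,1,1)],[],[],[],[],[],[],[],[],[],[],[],[],[],[],[],[]],
    [[],[],[],[],[],[],[],[],[],[],[],[],[],[],[],[],[],[],[],[],[],[],[],[],[],[],[],[],[],[],[],[],[],[],[],[],[],[],[],[],[],[],[],[],[],[],[],[],[],[],[],[],[],[],[],[],[],[],[],[],[],[],[],[],[],[],[],[],[],[(106,1,1)],[(107,1,1)],[],[],[(109,1,1)],[],[],[],[],[],[],[],[],[(111,1,1)],[],[],[],[],[],[],[],[],[],[(113,1,1)],[],[],[],[],[],[],[],[],[(115,1,1)],[],[(117,1,1)],[],[],[],[],[],[],[],[],[],[],[],[],[],[],[],[]],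
    [[],[],[],[],[],[],[],[],[],[],[],[],[],[],[],[],[],[],[],[],[],[],[],[],[],[],[],[],[],[],[],[],[],[],[],[],[],[],[],[],[],[],[],[],[],[],[],[],[],[],[],[],[],[],[],[],[],[],[],[],[],[],[],[],[],[],[],[],[(106,1,1)],[],[(108,1,1)],[],[(109,1,1)],[],[],[],[],[],[],[],[],[(111,1,1)],[],[],[],[],[],[],[],[],[],[(113,1,1)],[],[],[],[],[],[],[],[],[(115,1,1)],[],[],[(118,1,1)],[],[],[],[],[],[],[],[],[],[],[],[],[],[],[],[]],
    [[],[],[],[],[],[],[],[],[],[],[],[],[],[],[],[],[],[],[],[],[],[],[],[],[],[],[],[],[],[],[],[],[],[],[],[],[],[],[],[],[],[],[],[],[],[],[],[],[],[],[],[],[],[],[],[],[],[],[],[],[],[],[],[],[],[],[],[],[(107,1,1)],[(108,1,1)],[],[(109,1,1)],[],[],[],[],[],[],[],[],[(111,1,1)],[],[],[],[],[],[],[],[],[],[(113,1,1)],[],[],[],[],[],[],[],[],[(115,1,1)],[],[],[],[(119,1,1)],[],[],[],[],[],[],[],[],[],[],[],[],[],[],[],[]],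
    [[],[],[],[],[],[],[],[],[],[],[],[],[],[],[],[],[],[],[],[],[],[],[],[],[],[],[],[],[],[],[],[],[],[],[],[],[],[],[],[],[],[],[],[],[],[],[],[],[],[],[],[],[],[],[],[],[],[],[],[],[],[],[],[],[],[],[(106,1,1)],[(107,1,1)],[],[],[],[],[],[(110,1,1)],[],[],[],[],[],[(111,1,1)],[],[],[],[],[],[],[],[],[],[(113,1,1)],[],[],[],[],[],[],[],[],[],[],[],[(116,1,1)],[(117,1,1)],[],[],[],[],[],[],[],[],[],[],[],[],[],[],[],[],[]],
    [[],[],[],[],[],[],[],[],[],[],[],[],[],[],[],[],[],[],[],[],[],[],[],[],[],[],[],[],[],[],[],[],[],[],[],[],[],[],[],[],[],[],[],[],[],[],[],[],[],[],[],[],[],[],[],[],[],[],[],[],[],[],[],[],[],[(106,1,1)],[],[(108,1,1)],[],[],[],[],[(110,1,1)],[],[],[],[],[],[(111,1,1)],[],[],[],[],[],[],[],[],[],[(113,1,1)],[],[],[],[],[],[],[],[],[],[],[],[(116,1,1)],[],[(118,1,1)],[],[],[],[],[],[],[],[],[],[],[],[],[],[],[],[],[]],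
    [[],[],[],[],[],[],[],[],[],[],[],[],[],[],[],[],[],[],[],[],[],[],[],[],[],[],[],[],[],[],[],[],[],[],[],[],[],[],[],[],[],[],[],[],[],[],[],[],[],[],[],[],[],[],[],[],[],[],[],[],[],[],[],[],[],[(107,1,1)],[(108,1,1)],[],[],[],[],[(110,1,1)],[],[],[],[],[],[(111,1,1)],[],[],[],[],[],[],[],[],[],[(113,1,1)],[],[],[],[],[],[],[],[],[],[],[],[(116,1,1)],[],[],[(119,1,1)],[],[],[],[],[],[],[],[],[],[],[],[],[],[],[],[],[]],
    [[],[],[],[],[],[],[],[],[],[],[],[],[],[],[],[],[],[],[],[],[],[],[],[],[],[],[],[],[],[],[],[],[],[],[],[],[],[],[],[],[],[],[],[],[],[],[],[],[],[],[],[],[],[],[],[],[],[],[],[],[],[],[],[],[(106,1,1)],[],[],[(109,1,1)],[],[],[(110,1,1)],[],[],[],[],[],[(111,1,1)],[],[],[],[],[],[],[],[],[],[(113,1,1)],[],[],[],[],[],[],[],[],[],[],[],[],[],[(117,1,1)],[(118,1,1)],[],[],[],[],[],[],[],[],[],[],[],[],[],[],[],[],[],[]],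
    [[],[],[],[],[],[],[],[],[],[],[],[],[],[],[],[],[],[],[],[],[],[],[],[],[],[],[],[],[],[],[],[],[],[],[],[],[],[],[],[],[],[],[],[],[],[],[],[],[],[],[],[],[],[],[],[],[],[],[],[],[],[],[],[],[(107,1,1)],[],[(109,1,1)],[],[],[(110,1,1)],[],[],[],[],[],[(111,1,1)],[],[],[],[],[],[],[],[],[],[(113,1,1)],[],[],[],[],[],[],[],[],[],[],[],[],[],[(117,1,1)],[],[(119,1,1)],[],[],[],[],[],[],[],[],[],[],[],[],[],[],[],[],[],[]],
    [[],[],[],[],[],[],[],[],[],[],[],[],[],[],[],[],[],[],[],[],[],[],[],[],[],[],[],[],[],[],[],[],[],[],[],[],[],[],[],[],[],[],[],[],[],[],[],[],[],[],[],[],[],[],[],[],[],[],[],[],[],[],[],[],[(108,1,1)],[(109,1,1)],[],[],[(110,1,1)],[],[],[],[],[],[(111,1,1)],[],[],[],[],[],[],[],[],[],[(113,1,1)],[],[],[],[],[],[],[],[],[],[],[],[],[],[],[(118,1,1)],[(119,1,1)],[],[],[],[],[],[],[],[],[],[],[],[],[],[],[],[],[],[],[]],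
    [[],[],[],[],[],[],[],[],[],[],[],[],[],[],[],[],[],[],[],[],[],[],[],[],[],[],[],[],[],[],[],[],[],[],[],[],[],[],[],[],[],[],[],[],[],[],[],[],[],[],[],[],[],[],[],[],[],[],[],[],[],[],[],[],[],[],[],[],[],[],[],[],[],[],[],[],[],[],[],[],[],[],[],[(112,1,1)],[],[],[],[],[],[],[],[],[],[(114,1,1)],[],[],[],[(115,1,1)],[(116,1,1)],[],[],[],[],[],[],[],[],[],[],[],[],[],[],[],[],[],[],[],[],[]],
    [[],[],[],[],[],[],[],[],[],[],[],[],[],[],[],[],[],[],[],[],[],[],[],[],[],[],[],[],[],[],[],[],[],[],[],[],[],[],[],[],[],[],[],[],[],[],[],[],[],[],[],[],[],[],[],[],[],[],[],[],[],[],[],[],[],[],[],[],[],[],[],[],[],[],[],[],[],[],[],[],[],[],[(112,1,1)],[],[],[],[],[],[],[],[],[],[(114,1,1)],[],[],[],[(115,1,1)],[],[(117,1,1)],[],[],[],[],[],[],[],[],[],[],[],[],[],[],[],[],[],[],[],[],[]],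
    [[],[],[],[],[],[],[],[],[],[],[],[],[],[],[],[],[],[],[],[],[],[],[],[],[],[],[],[],[],[],[],[],[],[],[],[],[],[],[],[],[],[],[],[],[],[],[],[],[],[],[],[],[],[],[],[],[],[],[],[],[],[],[],[],[],[],[],[],[],[],[],[],[],[],[],[],[],[],[],[],[],[(112,1,1)],[],[],[],[],[],[],[],[],[],[(114,1,1)],[],[],[],[(115,1,1)],[],[],[(118,1,1)],[],[],[],[],[],[],[],[],[],[],[],[],[],[],[],[],[],[],[],[],[]],
    [[],[],[],[],[],[],[],[],[],[],[],[],[],[],[],[],[],[],[],[],[],[],[],[],[],[],[],[],[],[],[],[],[],[],[],[],[],[],[],[],[],[],[],[],[],[],[],[],[],[],[],[],[],[],[],[],[],[],[],[],[],[],[],[],[],[],[],[],[],[],[],[],[],[],[],[],[],[],[],[],[(112,1,1)],[],[],[],[],[],[],[],[],[],[(114,1,1)],[],[],[],[(115,1,1)],[],[],[],[(119,1,1)],[],[],[],[],[],[],[],[],[],[],[],[],[],[],[],[],[],[],[],[],[]],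
    [[],[],[],[],[],[],[],[],[],[],[],[],[],[],[],[],[],[],[],[],[],[],[],[],[],[],[],[],[],[],[],[],[],[],[],[],[],[],[],[],[],[],[],[],[],[],[],[],[],[],[],[],[],[],[],[],[],[],[],[],[],[],[],[],[],[],[],[],[],[],[],[],[],[],[],[],[],[],[],[(112,1,1)],[],[],[],[],[],[],[],[],[],[(114,1,1)],[],[],[],[],[],[],[(116,1,1)],[(117,1,1)],[],[],[],[],[],[],[],[],[],[],[],[],[],[],[],[],[],[],[],[],[],[]],
    [[],[],[],[],[],[],[],[],[],[],[],[],[],[],[],[],[],[],[],[],[],[],[],[],[],[],[],[],[],[],[],[],[],[],[],[],[],[],[],[],[],[],[],[],[],[],[],[],[],[],[],[],[],[],[],[],[],[],[],[],[],[],[],[],[],[],[],[],[],[],[],[],[],[],[],[],[],[],[(112,1,1)],[],[],[],[],[],[],[],[],[],[(114,1,1)],[],[],[],[],[],[],[(116,1,1)],[],[(118,1,1)],[],[],[],[],[],[],[],[],[],[],[],[],[],[],[],[],[],[],[],[],[],[]],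
    [[],[],[],[],[],[],[],[],[],[],[],[],[],[],[],[],[],[],[],[],[],[],[],[],[],[],[],[],[],[],[],[],[],[],[],[],[],[],[],[],[],[],[],[],[],[],[],[],[],[],[],[],[],[],[],[],[],[],[],[],[],[],[],[],[],[],[],[],[],[],[],[],[],[],[],[],[],[(112,1,1)],[],[],[],[],[],[],[],[],[],[(114,1,1)],[],[],[],[],[],[],[(116,1,1)],[],[],[(119,1,1)],[],[],[],[],[],[],[],[],[],[],[],[],[],[],[],[],[],[],[],[],[],[]],
    [[],[],[],[],[],[],[],[],[],[],[],[],[],[],[],[],[],[],[],[],[],[],[],[],[],[],[],[],[],[],[],[],[],[],[],[],[],[],[],[],[],[],[],[],[],[],[],[],[],[],[],[],[],[],[],[],[],[],[],[],[],[],[],[],[],[],[],[],[],[],[],[],[],[],[],[],[(112,1,1)],[],[],[],[],[],[],[],[],[],[(114,1,1)],[],[],[],[],[],[],[],[],[(117,1,1)],[(118,1,1)],[],[],[],[],[],[],[],[],[],[],[],[],[],[],[],[],[],[],[],[],[],[],[]],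
    [[],[],[],[],[],[],[],[],[],[],[],[],[],[],[],[],[],[],[],[],[],[],[],[],[],[],[],[],[],[],[],[],[],[],[],[],[],[],[],[],[],[],[],[],[],[],[],[],[],[],[],[],[],[],[],[],[],[],[],[],[],[],[],[],[],[],[],[],[],[],[],[],[],[],[],[(112,1,1)],[],[],[],[],[],[],[],[],[],[(114,1,1)],[],[],[],[],[],[],[],[],[(117,1,1)],[],[(119,1,1)],[],[],[],[],[],[],[],[],[],[],[],[],[],[],[],[],[],[],[],[],[],[],[]],
    [[],[],[],[],[],[],[],[],[],[],[],[],[],[],[],[],[],[],[],[],[],[],[],[],[],[],[],[],[],[],[],[],[],[],[],[],[],[],[],[],[],[],[],[],[],[],[],[],[],[],[],[],[],[],[],[],[],[],[],[],[],[],[],[],[],[],[],[],[],[],[],[],[],[],[(112,1,1)],[],[],[],[],[],[],[],[],[],[(114,1,1)],[],[],[],[],[],[],[],[],[],[(118,1,1)],[(119,1,1)],[],[],[],[],[],[],[],[],[],[],[],[],[],[],[],[],[],[],[],[],[],[],[],[]],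
    [[],[],[],[],[],[],[],[],[],[],[],[],[],[],[],[],[],[],[],[],[],[],[],[],[],[],[],[],[],[],[],[],[],[],[],[],[],[],[],[],[],[],[],[],[],[],[],[],[],[],[],[],[],[],[],[],[],[],[],[],[],[],[],[],[],[],[],[],[],[],[],[],[],[],[],[],[],[],[],[],[],[],[],[],[],[],[],[],[],[(115,1,1)],[],[],[(116,1,1)],[(117,1,1)],[],[],[],[],[],[],[],[],[],[],[],[],[],[],[],[],[],[],[],[],[],[],[],[],[],[]],
    [[],[],[],[],[],[],[],[],[],[],[],[],[],[],[],[],[],[],[],[],[],[],[],[],[],[],[],[],[],[],[],[],[],[],[],[],[],[],[],[],[],[],[],[],[],[],[],[],[],[],[],[],[],[],[],[],[],[],[],[],[],[],[],[],[],[],[],[],[],[],[],[],[],[],[],[],[],[],[],[],[],[],[],[],[],[],[],[],[(115,1,1)],[],[],[(116,1,1)],[],[(118,1,1)],[],[],[],[],[],[],[],[],[],[],[],[],[],[],[],[],[],[],[],[],[],[],[],[],[],[]],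
    [[],[],[],[],[],[],[],[],[],[],[],[],[],[],[],[],[],[],[],[],[],[],[],[],[],[],[],[],[],[],[],[],[],[],[],[],[],[],[],[],[],[],[],[],[],[],[],[],[],[],[],[],[],[],[],[],[],[],[],[],[],[],[],[],[],[],[],[],[],[],[],[],[],[],[],[],[],[],[],[],[],[],[],[],[],[],[],[(115,1,1)],[],[],[(116,1,1)],[],[],[(119,1,1)],[],[],[],[],[],[],[],[],[],[],[],[],[],[],[],[],[],[],[],[],[],[],[],[],[],[]],
    [[],[],[],[],[],[],[],[],[],[],[],[],[],[],[],[],[],[],[],[],[],[],[],[],[],[],[],[],[],[],[],[],[],[],[],[],[],[],[],[],[],[],[],[],[],[],[],[],[],[],[],[],[],[],[],[],[],[],[],[],[],[],[],[],[],[],[],[],[],[],[],[],[],[],[],[],[],[],[],[],[],[],[],[],[],[],[(115,1,1)],[],[],[],[],[(117,1,1)],[(118,1,1)],[],[],[],[],[],[],[],[],[],[],[],[],[],[],[],[],[],[],[],[],[],[],[],[],[],[],[]],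
    [[],[],[],[],[],[],[],[],[],[],[],[],[],[],[],[],[],[],[],[],[],[],[],[],[],[],[],[],[],[],[],[],[],[],[],[],[],[],[],[],[],[],[],[],[],[],[],[],[],[],[],[],[],[],[],[],[],[],[],[],[],[],[],[],[],[],[],[],[],[],[],[],[],[],[],[],[],[],[],[],[],[],[],[],[],[(115,1,1)],[],[],[],[],[(117,1,1)],[],[(119,1,1)],[],[],[],[],[],[],[],[],[],[],[],[],[],[],[],[],[],[],[],[],[],[],[],[],[],[],[]],
    [[],[],[],[],[],[],[],[],[],[],[],[],[],[],[],[],[],[],[],[],[],[],[],[],[],[],[],[],[],[],[],[],[],[],[],[],[],[],[],[],[],[],[],[],[],[],[],[],[],[],[],[],[],[],[],[],[],[],[],[],[],[],[],[],[],[],[],[],[],[],[],[],[],[],[],[],[],[],[],[],[],[],[],[],[(115,1,1)],[],[],[],[],[],[(118,1,1)],[(119,1,1)],[],[],[],[],[],[],[],[],[],[],[],[],[],[],[],[],[],[],[],[],[],[],[],[],[],[],[],[]],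
    [[],[],[],[],[],[],[],[],[],[],[],[],[],[],[],[],[],[],[],[],[],[],[],[],[],[],[],[],[],[],[],[],[],[],[],[],[],[],[],[],[],[],[],[],[],[],[],[],[],[],[],[],[],[],[],[],[],[],[],[],[],[],[],[],[],[],[],[],[],[],[],[],[],[],[],[],[],[],[],[],[],[],[],[],[],[],[(116,1,1)],[],[(117,1,1)],[(118,1,1)],[],[],[],[],[],[],[],[],[],[],[],[],[],[],[],[],[],[],[],[],[],[],[],[],[],[],[],[],[],[]],
    [[],[],[],[],[],[],[],[],[],[],[],[],[],[],[],[],[],[],[],[],[],[],[],[],[],[],[],[],[],[],[],[],[],[],[],[],[],[],[],[],[],[],[],[],[],[],[],[],[],[],[],[],[],[],[],[],[],[],[],[],[],[],[],[],[],[],[],[],[],[],[],[],[],[],[],[],[],[],[],[],[],[],[],[],[],[(116,1,1)],[],[(117,1,1)],[],[(119,1,1)],[],[],[],[],[],[],[],[],[],[],[],[],[],[],[],[],[],[],[],[],[],[],[],[],[],[],[],[],[],[]],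
    [[],[],[],[],[],[],[],[],[],[],[],[],[],[],[],[],[],[],[],[],[],[],[],[],[],[],[],[],[],[],[],[],[],[],[],[],[],[],[],[],[],[],[],[],[],[],[],[],[],[],[],[],[],[],[],[],[],[],[],[],[],[],[],[],[],[],[],[],[],[],[],[],[],[],[],[],[],[],[],[],[],[],[],[],[(116,1,1)],[],[],[(118,1,1)],[(119,1,1)],[],[],[],[],[],[],[],[],[],[],[],[],[],[],[],[],[],[],[],[],[],[],[],[],[],[],[],[],[],[],[]],
    [[],[],[],[],[],[],[],[],[],[],[],[],[],[],[],[],[],[],[],[],[],[],[],[],[],[],[],[],[],[],[],[],[],[],[],[],[],[],[],[],[],[],[],[],[],[],[],[],[],[],[],[],[],[],[],[],[],[],[],[],[],[],[],[],[],[],[],[],[],[],[],[],[],[],[],[],[],[],[],[],[],[],[],[],[(117,1,1)],[(118,1,1)],[(119,1,1)],[],[],[],[],[],[],[],[],[],[],[],[],[],[],[],[],[],[],[],[],[],[],[],[],[],[],[],[],[],[],[],[],[]],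
    [[],[],[],[],[],[],[],[],[],[],[],[],[],[],[],[],[],[],[],[],[],[],[],[],[],[],[],[],[],[],[],[],[],[],[],[],[],[],[],[],[],[],[],[],[],[],[],[],[],[],[],[],[],[],[],[],[],[],[],[],[],[],[],[],[],[],[],[],[],[],[],[],[],[],[],[],[],[],[],[],[],[],[],[],[],[],[],[],[],[],[],[],[],[],[],[],[],[],[],[],[],[],[],[],[],[],[],[],[],[],[],[],[],[],[],[],[],[],[],[]],
    [[],[],[],[],[],[],[],[],[],[],[],[],[],[],[],[],[],[],[],[],[],[],[],[],[],[],[],[],[],[],[],[],[],[],[],[],[],[],[],[],[],[],[],[],[],[],[],[],[],[],[],[],[],[],[],[],[],[],[],[],[],[],[],[],[],[],[],[],[],[],[],[],[],[],[],[],[],[],[],[],[],[],[],[],[],[],[],[],[],[],[],[],[],[],[],[],[],[],[],[],[],[],[],[],[],[],[],[],[],[],[],[],[],[],[],[],[],[],[],[]],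
    [[],[],[],[],[],[],[],[],[],[],[],[],[],[],[],[],[],[],[],[],[],[],[],[],[],[],[],[],[],[],[],[],[],[],[],[],[],[],[],[],[],[],[],[],[],[],[],[],[],[],[],[],[],[],[],[],[],[],[],[],[],[],[],[],[],[],[],[],[],[],[],[],[],[],[],[],[],[],[],[],[],[],[],[],[],[],[],[],[],[],[],[],[],[],[],[],[],[],[],[],[],[],[],[],[],[],[],[],[],[],[],[],[],[],[],[],[],[],[],[]],
    [[],[],[],[],[],[],[],[],[],[],[],[],[],[],[],[],[],[],[],[],[],[],[],[],[],[],[],[],[],[],[],[],[],[],[],[],[],[],[],[],[],[],[],[],[],[],[],[],[],[],[],[],[],[],[],[],[],[],[],[],[],[],[],[],[],[],[],[],[],[],[],[],[],[],[],[],[],[],[],[],[],[],[],[],[],[],[],[],[],[],[],[],[],[],[],[],[],[],[],[],[],[],[],[],[],[],[],[],[],[],[],[],[],[],[],[],[],[],[],[]],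
    [[],[],[],[],[],[],[],[],[],[],[],[],[],[],[],[],[],[],[],[],[],[],[],[],[],[],[],[],[],[],[],[],[],[],[],[],[],[],[],[],[],[],[],[],[],[],[],[],[],[],[],[],[],[],[],[],[],[],[],[],[],[],[],[],[],[],[],[],[],[],[],[],[],[],[],[],[],[],[],[],[],[],[],[],[],[],[],[],[],[],[],[],[],[],[],[],[],[],[],[],[],[],[],[],[],[],[],[],[],[],[],[],[],[],[],[],[],[],[],[]],
    [[],[],[],[],[],[],[],[],[],[],[],[],[],[],[],[],[],[],[],[],[],[],[],[],[],[],[],[],[],[],[],[],[],[],[],[],[],[],[],[],[],[],[],[],[],[],[],[],[],[],[],[],[],[],[],[],[],[],[],[],[],[],[],[],[],[],[],[],[],[],[],[],[],[],[],[],[],[],[],[],[],[],[],[],[],[],[],[],[],[],[],[],[],[],[],[],[],[],[],[],[],[],[],[],[],[],[],[],[],[],[],[],[],[],[],[],[],[],[],[]],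
    [[],[],[],[],[],[],[],[],[],[],[],[],[],[],[],[],[],[],[],[],[],[],[],[],[],[],[],[],[],[],[],[],[],[],[],[],[],[],[],[],[],[],[],[],[],[],[],[],[],[],[],[],[],[],[],[],[],[],[],[],[],[],[],[],[],[],[],[],[],[],[],[],[],[],[],[],[],[],[],[],[],[],[],[],[],[],[],[],[],[],[],[],[],[],[],[],[],[],[],[],[],[],[],[],[],[],[],[],[],[],[],[],[],[],[],[],[],[],[],[]],
    [[],[],[],[],[],[],[],[],[],[],[],[],[],[],[],[],[],[],[],[],[],[],[],[],[],[],[],[],[],[],[],[],[],[],[],[],[],[],[],[],[],[],[],[],[],[],[],[],[],[],[],[],[],[],[],[],[],[],[],[],[],[],[],[],[],[],[],[],[],[],[],[],[],[],[],[],[],[],[],[],[],[],[],[],[],[],[],[],[],[],[],[],[],[],[],[],[],[],[],[],[],[],[],[],[],[],[],[],[],[],[],[],[],[],[],[],[],[],[],[]],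
    [[],[],[],[],[],[],[],[],[],[],[],[],[],[],[],[],[],[],[],[],[],[],[],[],[],[],[],[],[],[],[],[],[],[],[],[],[],[],[],[],[],[],[],[],[],[],[],[],[],[],[],[],[],[],[],[],[],[],[],[],[],[],[],[],[],[],[],[],[],[],[],[],[],[],[],[],[],[],[],[],[],[],[],[],[],[],[],[],[],[],[],[],[],[],[],[],[],[],[],[],[],[],[],[],[],[],[],[],[],[],[],[],[],[],[],[],[],[],[],[]],
    [[],[],[],[],[],[],[],[],[],[],[],[],[],[],[],[],[],[],[],[],[],[],[],[],[],[],[],[],[],[],[],[],[],[],[],[],[],[],[],[],[],[],[],[],[],[],[],[],[],[],[],[],[],[],[],[],[],[],[],[],[],[],[],[],[],[],[],[],[],[],[],[],[],[],[],[],[],[],[],[],[],[],[],[],[],[],[],[],[],[],[],[],[],[],[],[],[],[],[],[],[],[],[],[],[],[],[],[],[],[],[],[],[],[],[],[],[],[],[],[]],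
    [[],[],[],[],[],[],[],[],[],[],[],[],[],[],[],[],[],[],[],[],[],[],[],[],[],[],[],[],[],[],[],[],[],[],[],[],[],[],[],[],[],[],[],[],[],[],[],[],[],[],[],[],[],[],[],[],[],[],[],[],[],[],[],[],[],[],[],[],[],[],[],[],[],[],[],[],[],[],[],[],[],[],[],[],[],[],[],[],[],[],[],[],[],[],[],[],[],[],[],[],[],[],[],[],[],[],[],[],[],[],[],[],[],[],[],[],[],[],[],[]],
    [[],[],[],[],[],[],[],[],[],[],[],[],[],[],[],[],[],[],[],[],[],[],[],[],[],[],[],[],[],[],[],[],[],[],[],[],[],[],[],[],[],[],[],[],[],[],[],[],[],[],[],[],[],[],[],[],[],[],[],[],[],[],[],[],[],[],[],[],[],[],[],[],[],[],[],[],[],[],[],[],[],[],[],[],[],[],[],[],[],[],[],[],[],[],[],[],[],[],[],[],[],[],[],[],[],[],[],[],[],[],[],[],[],[],[],[],[],[],[],[]],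
    [[],[],[],[],[],[],[],[],[],[],[],[],[],[],[],[],[],[],[],[],[],[],[],[],[],[],[],[],[],[],[],[],[],[],[],[],[],[],[],[],[],[],[],[],[],[],[],[],[],[],[],[],[],[],[],[],[],[],[],[],[],[],[],[],[],[],[],[],[],[],[],[],[],[],[],[],[],[],[],[],[],[],[],[],[],[],[],[],[],[],[],[],[],[],[],[],[],[],[],[],[],[],[],[],[],[],[],[],[],[],[],[],[],[],[],[],[],[],[],[]],
    [[],[],[],[],[],[],[],[],[],[],[],[],[],[],[],[],[],[],[],[],[],[],[],[],[],[],[],[],[],[],[],[],[],[],[],[],[],[],[],[],[],[],[],[],[],[],[],[],[],[],[],[],[],[],[],[],[],[],[],[],[],[],[],[],[],[],[],[],[],[],[],[],[],[],[],[],[],[],[],[],[],[],[],[],[],[],[],[],[],[],[],[],[],[],[],[],[],[],[],[],[],[],[],[],[],[],[],[],[],[],[],[],[],[],[],[],[],[],[],[]],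
    [[],[],[],[],[],[],[],[],[],[],[],[],[],[],[],[],[],[],[],[],[],[],[],[],[],[],[],[],[],[],[],[],[],[],[],[],[],[],[],[],[],[],[],[],[],[],[],[],[],[],[],[],[],[],[],[],[],[],[],[],[],[],[],[],[],[],[],[],[],[],[],[],[],[],[],[],[],[],[],[],[],[],[],[],[],[],[],[],[],[],[],[],[],[],[],[],[],[],[],[],[],[],[],[],[],[],[],[],[],[],[],[],[],[],[],[],[],[],[],[]],
    [[],[],[],[],[],[],[],[],[],[],[],[],[],[],[],[],[],[],[],[],[],[],[],[],[],[],[],[],[],[],[],[],[],[],[],[],[],[],[],[],[],[],[],[],[],[],[],[],[],[],[],[],[],[],[],[],[],[],[],[],[],[],[],[],[],[],[],[],[],[],[],[],[],[],[],[],[],[],[],[],[],[],[],[],[],[],[],[],[],[],[],[],[],[],[],[],[],[],[],[],[],[],[],[],[],[],[],[],[],[],[],[],[],[],[],[],[],[],[],[]],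
    [[],[],[],[],[],[],[],[],[],[],[],[],[],[],[],[],[],[],[],[],[],[],[],[],[],[],[],[],[],[],[],[],[],[],[],[],[],[],[],[],[],[],[],[],[],[],[],[],[],[],[],[],[],[],[],[],[],[],[],[],[],[],[],[],[],[],[],[],[],[],[],[],[],[],[],[],[],[],[],[],[],[],[],[],[],[],[],[],[],[],[],[],[],[],[],[],[],[],[],[],[],[],[],[],[],[],[],[],[],[],[],[],[],[],[],[],[],[],[],[]],
    [[],[],[],[],[],[],[],[],[],[],[],[],[],[],[],[],[],[],[],[],[],[],[],[],[],[],[],[],[],[],[],[],[],[],[],[],[],[],[],[],[],[],[],[],[],[],[],[],[],[],[],[],[],[],[],[],[],[],[],[],[],[],[],[],[],[],[],[],[],[],[],[],[],[],[],[],[],[],[],[],[],[],[],[],[],[],[],[],[],[],[],[],[],[],[],[],[],[],[],[],[],[],[],[],[],[],[],[],[],[],[],[],[],[],[],[],[],[],[],[]],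
    [[],[],[],[],[],[],[],[],[],[],[],[],[],[],[],[],[],[],[],[],[],[],[],[],[],[],[],[],[],[],[],[],[],[],[],[],[],[],[],[],[],[],[],[],[],[],[],[],[],[],[],[],[],[],[],[],[],[],[],[],[],[],[],[],[],[],[],[],[],[],[],[],[],[],[],[],[],[],[],[],[],[],[],[],[],[],[],[],[],[],[],[],[],[],[],[],[],[],[],[],[],[],[],[],[],[],[],[],[],[],[],[],[],[],[],[],[],[],[],[]],
    [[],[],[],[],[],[],[],[],[],[],[],[],[],[],[],[],[],[],[],[],[],[],[],[],[],[],[],[],[],[],[],[],[],[],[],[],[],[],[],[],[],[],[],[],[],[],[],[],[],[],[],[],[],[],[],[],[],[],[],[],[],[],[],[],[],[],[],[],[],[],[],[],[],[],[],[],[],[],[],[],[],[],[],[],[],[],[],[],[],[],[],[],[],[],[],[],[],[],[],[],[],[],[],[],[],[],[],[],[],[],[],[],[],[],[],[],[],[],[],[]],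
    [[],[],[],[],[],[],[],[],[],[],[],[],[],[],[],[],[],[],[],[],[],[],[],[],[],[],[],[],[],[],[],[],[],[],[],[],[],[],[],[],[],[],[],[],[],[],[],[],[],[],[],[],[],[],[],[],[],[],[],[],[],[],[],[],[],[],[],[],[],[],[],[],[],[],[],[],[],[],[],[],[],[],[],[],[],[],[],[],[],[],[],[],[],[],[],[],[],[],[],[],[],[],[],[],[],[],[],[],[],[],[],[],[],[],[],[],[],[],[],[]],
    [[],[],[],[],[],[],[],[],[],[],[],[],[],[],[],[],[],[],[],[],[],[],[],[],[],[],[],[],[],[],[],[],[],[],[],[],[],[],[],[],[],[],[],[],[],[],[],[],[],[],[],[],[],[],[],[],[],[],[],[],[],[],[],[],[],[],[],[],[],[],[],[],[],[],[],[],[],[],[],[],[],[],[],[],[],[],[],[],[],[],[],[],[],[],[],[],[],[],[],[],[],[],[],[],[],[],[],[],[],[],[],[],[],[],[],[],[],[],[],[]],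
    [[],[],[],[],[],[],[],[],[],[],[],[],[],[],[],[],[],[],[],[],[],[],[],[],[],[],[],[],[],[],[],[],[],[],[],[],[],[],[],[],[],[],[],[],[],[],[],[],[],[],[],[],[],[],[],[],[],[],[],[],[],[],[],[],[],[],[],[],[],[],[],[],[],[],[],[],[],[],[],[],[],[],[],[],[],[],[],[],[],[],[],[],[],[],[],[],[],[],[],[],[],[],[],[],[],[],[],[],[],[],[],[],[],[],[],[],[],[],[],[]],
    [[],[],[],[],[],[],[],[],[],[],[],[],[],[],[],[],[],[],[],[],[],[],[],[],[],[],[],[],[],[],[],[],[],[],[],[],[],[],[],[],[],[],[],[],[],[],[],[],[],[],[],[],[],[],[],[],[],[],[],[],[],[],[],[],[],[],[],[],[],[],[],[],[],[],[],[],[],[],[],[],[],[],[],[],[],[],[],[],[],[],[],[],[],[],[],[],[],[],[],[],[],[],[],[],[],[],[],[],[],[],[],[],[],[],[],[],[],[],[],[]],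
    [[],[],[],[],[],[],[],[],[],[],[],[],[],[],[],[],[],[],[],[],[],[],[],[],[],[],[],[],[],[],[],[],[],[],[],[],[],[],[],[],[],[],[],[],[],[],[],[],[],[],[],[],[],[],[],[],[],[],[],[],[],[],[],[],[],[],[],[],[],[],[],[],[],[],[],[],[],[],[],[],[],[],[],[],[],[],[],[],[],[],[],[],[],[],[],[],[],[],[],[],[],[],[],[],[],[],[],[],[],[],[],[],[],[],[],[],[],[],[],[]],
    [[],[],[],[],[],[],[],[],[],[],[],[],[],[],[],[],[],[],[],[],[],[],[],[],[],[],[],[],[],[],[],[],[],[],[],[],[],[],[],[],[],[],[],[],[],[],[],[],[],[],[],[],[],[],[],[],[],[],[],[],[],[],[],[],[],[],[],[],[],[],[],[],[],[],[],[],[],[],[],[],[],[],[],[],[],[],[],[],[],[],[],[],[],[],[],[],[],[],[],[],[],[],[],[],[],[],[],[],[],[],[],[],[],[],[],[],[],[],[],[]],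
    [[],[],[],[],[],[],[],[],[],[],[],[],[],[],[],[],[],[],[],[],[],[],[],[],[],[],[],[],[],[],[],[],[],[],[],[],[],[],[],[],[],[],[],[],[],[],[],[],[],[],[],[],[],[],[],[],[],[],[],[],[],[],[],[],[],[],[],[],[],[],[],[],[],[],[],[],[],[],[],[],[],[],[],[],[],[],[],[],[],[],[],[],[],[],[],[],[],[],[],[],[],[],[],[],[],[],[],[],[],[],[],[],[],[],[],[],[],[],[],[]],
    [[],[],[],[],[],[],[],[],[],[],[],[],[],[],[],[],[],[],[],[],[],[],[],[],[],[],[],[],[],[],[],[],[],[],[],[],[],[],[],[],[],[],[],[],[],[],[],[],[],[],[],[],[],[],[],[],[],[],[],[],[],[],[],[],[],[],[],[],[],[],[],[],[],[],[],[],[],[],[],[],[],[],[],[],[],[],[],[],[],[],[],[],[],[],[],[],[],[],[],[],[],[],[],[],[],[],[],[],[],[],[],[],[],[],[],[],[],[],[],[]],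
    [[],[],[],[],[],[],[],[],[],[],[],[],[],[],[],[],[],[],[],[],[],[],[],[],[],[],[],[],[],[],[],[],[],[],[],[],[],[],[],[],[],[],[],[],[],[],[],[],[],[],[],[],[],[],[],[],[],[],[],[],[],[],[],[],[],[],[],[],[],[],[],[],[],[],[],[],[],[],[],[],[],[],[],[],[],[],[],[],[],[],[],[],[],[],[],[],[],[],[],[],[],[],[],[],[],[],[],[],[],[],[],[],[],[],[],[],[],[],[],[]],
    [[],[],[],[],[],[],[],[],[],[],[],[],[],[],[],[],[],[],[],[],[],[],[],[],[],[],[],[],[],[],[],[],[],[],[],[],[],[],[],[],[],[],[],[],[],[],[],[],[],[],[],[],[],[],[],[],[],[],[],[],[],[],[],[],[],[],[],[],[],[],[],[],[],[],[],[],[],[],[],[],[],[],[],[],[],[],[],[],[],[],[],[],[],[],[],[],[],[],[],[],[],[],[],[],[],[],[],[],[],[],[],[],[],[],[],[],[],[],[],[]],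
    [[],[],[],[],[],[],[],[],[],[],[],[],[],[],[],[],[],[],[],[],[],[],[],[],[],[],[],[],[],[],[],[],[],[],[],[],[],[],[],[],[],[],[],[],[],[],[],[],[],[],[],[],[],[],[],[],[],[],[],[],[],[],[],[],[],[],[],[],[],[],[],[],[],[],[],[],[],[],[],[],[],[],[],[],[],[],[],[],[],[],[],[],[],[],[],[],[],[],[],[],[],[],[],[],[],[],[],[],[],[],[],[],[],[],[],[],[],[],[],[]],
    [[],[],[],[],[],[],[],[],[],[],[],[],[],[],[],[],[],[],[],[],[],[],[],[],[],[],[],[],[],[],[],[],[],[],[],[],[],[],[],[],[],[],[],[],[],[],[],[],[],[],[],[],[],[],[],[],[],[],[],[],[],[],[],[],[],[],[],[],[],[],[],[],[],[],[],[],[],[],[],[],[],[],[],[],[],[],[],[],[],[],[],[],[],[],[],[],[],[],[],[],[],[],[],[],[],[],[],[],[],[],[],[],[],[],[],[],[],[],[],[]],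
    [[],[],[],[],[],[],[],[],[],[],[],[],[],[],[],[],[],[],[],[],[],[],[],[],[],[],[],[],[],[],[],[],[],[],[],[],[],[],[],[],[],[],[],[],[],[],[],[],[],[],[],[],[],[],[],[],[],[],[],[],[],[],[],[],[],[],[],[],[],[],[],[],[],[],[],[],[],[],[],[],[],[],[],[],[],[],[],[],[],[],[],[],[],[],[],[],[],[],[],[],[],[],[],[],[],[],[],[],[],[],[],[],[],[],[],[],[],[],[],[]],
    [[],[],[],[],[],[],[],[],[],[],[],[],[],[],[],[],[],[],[],[],[],[],[],[],[],[],[],[],[],[],[],[],[],[],[],[],[],[],[],[],[],[],[],[],[],[],[],[],[],[],[],[],[],[],[],[],[],[],[],[],[],[],[],[],[],[],[],[],[],[],[],[],[],[],[],[],[],[],[],[],[],[],[],[],[],[],[],[],[],[],[],[],[],[],[],[],[],[],[],[],[],[],[],[],[],[],[],[],[],[],[],[],[],[],[],[],[],[],[],[]],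
    [[],[],[],[],[],[],[],[],[],[],[],[],[],[],[],[],[],[],[],[],[],[],[],[],[],[],[],[],[],[],[],[],[],[],[],[],[],[],[],[],[],[],[],[],[],[],[],[],[],[],[],[],[],[],[],[],[],[],[],[],[],[],[],[],[],[],[],[],[],[],[],[],[],[],[],[],[],[],[],[],[],[],[],[],[],[],[],[],[],[],[],[],[],[],[],[],[],[],[],[],[],[],[],[],[],[],[],[],[],[],[],[],[],[],[],[],[],[],[],[]],
    [[],[],[],[],[],[],[],[],[],[],[],[],[],[],[],[],[],[],[],[],[],[],[],[],[],[],[],[],[],[],[],[],[],[],[],[],[],[],[],[],[],[],[],[],[],[],[],[],[],[],[],[],[],[],[],[],[],[],[],[],[],[],[],[],[],[],[],[],[],[],[],[],[],[],[],[],[],[],[],[],[],[],[],[],[],[],[],[],[],[],[],[],[],[],[],[],[],[],[],[],[],[],[],[],[],[],[],[],[],[],[],[],[],[],[],[],[],[],[],[]]]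

/-- The sets of the certificate. -/
def reps : List (List ℕ) := [[119], [112,113], [108,102,98], [106,100,93,96], [1,39,106,119], [6,32,39,106,119], [15,21,32,39,106,119], [6,15,21,32,39,106,119], [1,6,15,21,32,39,106,119]]

/-- The class representatives. -/
def classes : List (List ℕ) := [[119], [112,113], [108,102,98], [106,100,93,96]]

/-- The products linking the sets to the classes. -/
def chains : List (List Step × ℕ) := [
  ([], 0),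
  ([], 1),
  ([], 2),
  ([], 3),
  ([.x 2 [1,39,41,106,108,119], .x 40 [1,39,106,108,117], .x 107 [1,39,106,118], .x 41 [1,39,106], .w [0,2,0,3,1,2,3,4,3,2,0,5,6,5,4,3,1,2,0,3,2,4,3,1,5,4,3,2,0,6,5,4,3,1,2,3,4,5,6,7] [108,102,98]], 2),
  ([.x 9 [6,32,38,39,106,110,119], .x 35 [6,32,39,106,110,115], .x 109 [6,32,39,106,116], .x 38 [6,32,39,106], .w [1,2,3,1,2,3,4,3,1,2,0,3,2,5,4,3,1,2,0,3,6,5,4,3,1,2,0,3,4,5,6,7,6,5] [106,100,93,96]], 3),
  ([.x 20 [15,21,31,32,39,106,112,119], .x 26 [15,21,32,39,106,112,113], .x 111 [15,21,32,39,106,114], .x 31 [15,21,32,39,106], .w [0,3,1,4,3,2,5,4,3,1,2,3,6,5,4,3,1,2,0,3,7,6,5,4,3,1,2,3,4,5,6,7] [6,32,39,106,119], .x 9 [6,32,38,39,106,110,119], .x 35 [6,32,39,106,110,115], .x 109 [6,32,39,106,116], .x 38 [6,32,39,106], .w [1,2,3,1,2,3,4,3,1,2,0,3,2,5,4,3,1,2,0,3,6,5,4,3,1,2,0,3,4,5,6,7,6,5] [106,100,93,96]], 3),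
  ([.x 9 [6,15,21,32,38,39,106,110,119], .x 35 [6,15,21,32,39,106,110,115], .x 109 [6,15,21,32,39,106,116], .x 38 [6,15,21,32,39,106], .w [3,1,2,0,3,2,5,4,3,1,2,3,4,5,6,5,4,3,1,2,0,3,4,5,7,6,5,4,3,1,2,3,4,5,6,7] [15,21,32,39,106,119], .x 20 [15,21,31,32,39,106,112,119], .x 26 [15,21,32,39,106,112,113], .x 111 [15,21,32,39,106,114], .x 31 [15,21,32,39,106], .w [0,3,1,4,3,2,5,4,3,1,2,3,6,5,4,3,1,2,0,3,7,6,5,4,3,1,2,3,4,5,6,7] [6,32,39,106,119], .x 9 [6,32,38,39,106,110,119], .x 35 [6,32,39,106,110,115], .x 109 [6,32,39,106,116], .x 38 [6,32,39,106], .w [1,2,3,1,2,3,4,3,1,2,0,3,2,5,4,3,1,2,0,3,6,5,4,3,1,2,0,3,4,5,6,7,6,5] [106,100,93,96]], 3),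
  ([.x 2 [1,6,15,21,32,39,41,106,108,119], .x 40 [1,6,15,21,32,39,106,108,117], .x 107 [1,6,15,21,32,39,106,118], .x 41 [1,6,15,21,32,39,106], .w [5,4,3,1,2,0,3,2,4,3,1,5,4,3,2,0,7,6,5,4,3,1,2,3,4,5,6,7] [6,15,21,32,39,106,119], .x 9 [6,15,21,32,38,39,106,110,119], .x 35 [6,15,21,32,39,106,110,115], .x 109 [6,15,21,32,39,106,116], .x 38 [6,15,21,32,39,106], .w [3,1,2,0,3,2,5,4,3,1,2,3,4,5,6,5,4,3,1,2,0,3,4,5,7,6,5,4,3,1,2,3,4,5,6,7] [15,21,32,39,106,119], .x 20 [15,21,31,32,39,106,112,119], .x 26 [15,21,32,39,106,112,113], .x 111 [15,21,32,39,106,114], .x 31 [15,21,32,39,106], .w [0,3,1,4,3,2,5,4,3,1,2,3,6,5,4,3,1,2,0,3,7,6,5,4,3,1,2,3,4,5,6,7] [6,32,39,106,119], .x 9 [6,32,38,39,106,110,119], .x 35 [6,32,39,106,110,115], .x 109 [6,32,39,106,116], .x 38 [6,32,39,106], .w [1,2,3,1,2,3,4,3,1,2,0,3,2,5,4,3,1,2,0,3,6,5,4,3,1,2,0,3,4,5,6,7,6,5] [106,100,93,96]], 3)]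

theorem chains_ok : chainsChk sys reps classes chains = true := by decide +kernel

end Cfsg.Agent.Chevalley.InvolCert.E8
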