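import Cfsg.Agent.Lib.Chevalley.InvolCert.Rank
import Cfsg.Agent.Lib.Chevalley.InvolCert.E8.Sys

/-! The ranks of the displacements of the class representatives of type E8. -/

set_option autoImplicit false
set_option maxRecDepth 100000
set_option maxHeartbeats 2000000

namespace Cfsg.Agent.Chevalley.InvolCert.E8

theorem rank0_ok : rankChk Data.E8.tab.col 248 [239]
    [([7],[247],247),([7,8],[1,4,6],6),([9],[128],128),([10],[130],130),([11],[133],133),([12],[137],137),([13],[142],142),([14],[148],148),([15],[154],154),([16],[159],159),([17],[163],163),([18],[166],166),([19],[168],168),([20],[169],169),([22],[176],176),([23],[181],181),([24],[185],185),([25],[188],188),([26],[190],190),([27],[191],191),([29],[195],195),([30],[198],198),([31],[200],200),([32],[201],201),([34],[204],204),([35],[206],206),([36],[207],207),([38],[209],209),([39],[210],210),([41],[211],211),([44],[214],214),([45],[216],216),([46],[217],217),([48],[219],219),([49],[220],220),([51],[221],221),([54],[223],223),([55],[224],224),([57],[225],225),([60],[226],226),([64],[228],228),([65],[229],229),([67],[230],230),([70],[231],231),([74],[232],232),([79],[233],233),([86],[235],235),([87],[236],236),([89],[237],237),([92],[238],238),([96],[239],239),([101],[240],240),([107],[241],241),([113],[242],242),([118],[243],243),([122],[244],244),([125],[245],245),([127],[246],246)]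
    [[],[],[],[],[],[],[],[0],[0,1],[2],[3],[4],[5],[6],[7],[8],[9],[10],[11],[12],[13],[],[14],[15],[16],[17],[18],[19],[],[20],[21],[22],[23],[],[24],[25],[26],[],[27],[28],[],[29],[],[],[30],[31],[32],[],[33],[34],[],[35],[],[],[36],[37],[],[38],[],[],[39],[],[],[],[40],[41],[],[42],[],[],[43],[],[],[],[44],[],[],[],[],[45],[],[],[],[],[],[],[46],[47],[],[48],[],[],[49],[],[],[],[50],[],[],[],[],[51],[],[],[],[],[],[52],[],[],[],[],[],[53],[],[],[],[],[54],[],[],[],[55],[],[],[56],[],[57],[],[],[],[],[],[],[],[],[],[],[],[],[],[],[],[],[],[],[],[],[],[],[],[],[],[],[],[],[],[],[],[],[],[],[],[],[],[],[],[],[],[],[],[],[],[],[],[],[],[],[],[],[],[],[],[],[],[],[],[],[],[],[],[],[],[],[],[],[],[],[],[],[],[],[],[],[],[],[],[],[],[],[],[],[],[],[],[],[],[],[],[],[],[],[],[],[],[],[],[],[],[],[],[],[],[],[],[],[],[],[],[],[],[],[],[],[],[],[],[]] = true := by decide +kernel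

theorem rank1_ok : rankChk Data.E8.tab.col 248 [232,233]
    [([0],[241],241),([0,1],[240],240),([101],[234],234),([102],[235],235),([103],[236],236),([104],[237],237),([105],[238],238),([106],[239],239),([0,1,15],[3,5,7],7),([1,14,15],[1,2],2),([143],[242],242),([144],[243],243),([145],[244],244),([146],[245],245),([147],[246],246),([148],[247],247),([22],[170],170),([23],[171],171),([24],[172],172),([25],[173],173),([26],[174],174),([27],[175],175),([28],[176],176),([29],[177],177),([30],[178],178),([31],[179],179),([32],[180],180),([33],[181],181),([34],[182],182),([35],[183],183),([36],[184],184),([37],[185],185),([38],[186],186),([39],[187],187),([40],[188],188),([41],[189],189),([42],[190],190),([43],[191],191),([44],[192],192),([45],[193],193),([46],[194],194),([47],[195],195),([48],[196],196),([49],[197],197),([50],[198],198),([51],[199],199),([52],[200],200),([53],[201],201),([54],[202],202),([55],[203],203),([56],[204],204),([57],[205],205),([58],[206],206),([59],[207],207),([60],[208],208),([61],[209],209),([62],[210],210),([63],[211],211),([64],[212],212),([65],[213]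,213),([66],[214],214),([67],[215],215),([68],[216],216),([69],[217],217),([70],[218],218),([71],[219],219),([72],[220],220),([73],[221],221),([74],[222],222),([75],[223],223),([76],[224],224),([77],[225],225),([78],[226],226),([79],[227],227),([80],[228],228),([81],[229],229),([82],[230],230),([83],[231],231),([84],[232],232),([85],[233],233),([8,101],[101,107],107),([9,102],[102,108],108),([10,103],[103,109],109),([11,104],[104,110],110),([12,105],[105,111],111),([13,106],[106,112],112),([16,143],[143,149],149),([17,144],[144,150],150),([18,145],[145,151],151),([19,146],[146,152],152),([20,147],[147,153],153),([21,148],[148,154],154)]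
    [[0],[0,1],[0,1],[],[],[],[],[],[2,80],[3,81],[4,82],[5,83],[6,84],[7,85],[0,8,9],[1,8],[10,86],[11,87],[12,88],[13,89],[14,90],[15,91],[16],[17],[18],[19],[20],[21],[22],[23],[24],[25],[26],[27],[28],[29],[30],[31],[32],[33],[34],[35],[36],[37],[38],[39],[40],[41],[42],[43],[44],[45],[46],[47],[48],[49],[50],[51],[52],[53],[54],[55],[56],[57],[58],[59],[60],[61],[62],[63],[64],[65],[66],[67],[68],[69],[70],[71],[72],[73],[74],[75],[76],[77],[78],[79],[],[],[],[],[],[],[],[],[],[],[],[],[],[],[],[2],[3],[4],[5],[6],[7],[2],[3],[4],[5],[6],[7],[],[],[],[],[],[],[],[],[],[],[],[],[],[],[],[],[],[],[],[],[],[],[],[],[],[],[],[],[],[],[10],[11],[12],[13],[14],[15],[10],[11],[12],[13],[14],[15],[],[],[],[],[],[],[],[],[],[],[],[],[],[],[],[],[],[],[],[],[],[],[],[],[],[],[],[],[],[],[],[],[],[],[],[],[],[],[],[],[],[],[],[],[],[],[],[],[],[],[],[],[],[],[],[],[],[],[],[],[],[],[],[],[],[],[],[],[],[],[],[],[],[],[],[],[],[],[],[],[],[],[],[],[],[],[],[],[],[],[],[],[]] = true := by decide +kernel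

theorem rank2_ok : rankChk Data.E8.tab.col 248 [228,222,218]
    [([6],[236],236),([0,6],[230],230),([0,2,6],[226],226),([60,67,87],[246],246),([61,68,88],[247],247),([62],[169],169),([63],[191],191),([73],[201],201),([77],[207],207),([78],[210],210),([82],[217],217),([83],[220],220),([84],[224],224),([85],[229],229),([2,6,19,25,29],[7],7),([20],[129],129),([21],[130],130),([100],[211],211),([111],[221],221),([112],[225],225),([0,19,25],[0,5],5),([131],[237],237),([27],[132],132),([28],[133],133),([2,25,29],[2,4],4),([134],[231],231),([135],[238],238),([32],[136],136),([33],[137],137),([139],[232],232),([140],[239],239),([36],[141],141),([37],[142],142),([146],[240],240),([39],[147],147),([40],[148],148),([41],[175],175),([42],[176],176),([151],[233],233),([152],[241],241),([46],[153],153),([47],[154],154),([157],[242],242),([49],[158],158),([50],[159],159),([51],[180],180),([52],[181],181),([161],[243],243),([55],[162],162),([56],[163],163),([57],[184],184),([58],[185],185),([8,60],[60,67,87,194],194),([9,61],[61,68,88,195],195),([10,62],[62,69],69),([11,63],[63,91],91),([164],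[244],244),([65],[165],165),([66],[166],166),([8,67],[60,67,87,187],187),([9,68],[61,68,88,188],188),([70],[197],197),([71],[198],198),([12,73],[73,94],94),([74],[203],203),([75],[204],204),([13,77],[77,98],98),([14,78],[78,103],103),([79],[213],213),([80],[214],214),([15,82],[82,109],109),([16,83],[83,115],115),([17,84],[84,120],120),([18,85],[85,124],124),([186],[245],245),([8,87],[60,67,87,167],167),([9,88],[61,68,88,168],168),([89],[189],189),([90],[190],190),([92],[199],199),([93],[200],200),([96],[205],205),([97],[206],206),([22,100],[100,104],104),([101],[208],208),([102],[209],209),([107],[215],215),([108],[216],216),([23,111],[111,116],116),([24,112],[112,121],121),([113],[218],218),([114],[219],219),([118],[222],222),([119],[223],223),([122],[227],227),([123],[228],228),([125],[234],234),([126],[235],235),([26,131],[131,170],170),([30,134],[134,143],143),([31,135],[135,171],171),([34,139],[139,144],144),([35,140],[140,172],172),([38,146],[146,173],173),([44,151],[151,155],155),([45,152],[152,177],177),([48,157],[157,178],178),([54,161],[161,182],182),([64,164],[164,192],192),([86,186],[186,193],193)]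
    [[0,1],[],[1,2],[],[1,2],[0,1],[0],[],[3,52,59,75],[4,53,60,76],[5,54],[6,55],[7,63],[8,66],[9,67],[10,70],[11,71],[12,72],[13,73],[0,14,24],[15],[16],[17,83],[18,88],[19,89],[1,14,20,24],[21,98],[22],[23],[2,14,20],[25,99],[26,100],[27],[28],[29,101],[30,102],[31],[32],[33,103],[34],[35],[36],[37],[],[38,104],[39,105],[40],[41],[42,106],[43],[44],[45],[46],[],[47,107],[48],[49],[50],[51],[],[3,59,75],[4,60,76],[5],[6],[56,108],[57],[58],[3,52,75],[4,53,76],[5],[61],[62],[],[7],[64],[65],[],[8],[9],[68],[69],[],[10],[11],[12],[13],[74,109],[3,52,59],[4,53,60],[77],[78],[6],[79],[80],[7],[],[81],[82],[8],[],[17],[84],[85],[9],[17],[],[],[86],[87],[10],[],[18],[19],[90],[91],[11],[18],[],[92],[93],[12],[19],[94],[95],[13],[96],[97],[],[],[],[],[21],[],[],[25],[26],[],[],[],[29],[30],[],[],[25],[29],[],[33],[],[],[],[],[38],[39],[],[],[38],[],[42],[],[],[],[47],[],[],[56],[],[],[3],[4],[],[21],[26],[30],[33],[],[],[],[39],[42],[],[],[],[47],[],[],[],[74],[3],[4],[],[],[],[56],[74],[3],[4],[],[],[],[],[],[],[],[],[],[],[],[],[],[],[],[],[],[],[],[],[],[],[],[],[],[],[],[],[],[],[],[],[],[],[],[],[],[],[],[],[],[],[],[],[],[],[],[],[],[],[],[]]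 = true := by decide +kernel

theorem rank3_ok : rankChk Data.E8.tab.col 248 [226,220,213,216]
    [([0,1,2,3],[234],234),([1],[221],221),([1,2,3],[228],228),([1,3],[224],224),([51,55,64],[233],233),([52,56,86],[241],241),([53,66,87],[242],242),([59,68,89],[243],243),([62,71,92],[244],244),([63,75,96],[245],245),([73,76,101],[246],246),([80],[212],212),([81],[213],213),([82],[215],215),([83],[218],218),([84],[222],222),([85],[227],227),([2,27,31],[2,6],6),([95,98,102],[247],247),([109],[214],214),([110],[216],216),([111],[219],219),([112],[223],223),([0,21,27],[0,7],7),([128],[235],235),([116],[217],217),([117],[220],220),([0,1,3,21,27,31],[4],4),([129],[229],229),([130],[236],236),([3,31,34],[3,5],5),([131],[225],225),([132],[230],230),([133],[237],237),([135],[226],226),([136],[231],231),([137],[238],238),([141],[232],232),([142],[239],239),([148],[240],240),([44],[149],149),([45],[150],150),([46],[155],155),([47],[177],177),([48],[151],151),([49],[156],156),([50],[178],178),([8,51],[51,55,64,160],160),([9,52],[52,56,86,182],182),([10,53],[53,66,87,192],192),([54],[152],152),([8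,55],[51,55,64,157],157),([9,56],[52,56,86,179],179),([57],[161],161),([58],[183],183),([11,59],[59,68,89,193],193),([60],[164],164),([61],[186],186),([12,62],[62,71,92,196],196),([13,63],[63,75,96,202],202),([8,64],[51,55,64,153],153),([65],[158],158),([10,66],[53,66,87,180],180),([67],[162],162),([11,68],[59,68,89,184],184),([69],[194],194),([70],[165],165),([12,71],[62,71,92,187],187),([72],[197],197),([14,73],[73,76,101,203],203),([74],[167],167),([13,75],[63,75,96,189],189),([14,76],[73,76,101,199],199),([77],[205],205),([78],[208],208),([15,80],[80,107],107),([16,81],[81,113],113),([17,82],[82,118],118),([18,83],[83,122],122),([19,84],[84,125],125),([20,85],[85,127],127),([9,86],[52,56,86,154],154),([10,87],[53,66,87,159],159),([88],[181],181),([11,89],[59,68,89,163],163),([90],[185],185),([91],[195],195),([12,92],[62,71,92,166],166),([93],[188],188),([94],[198],198),([22,95],[95,98,102,204],204),([13,96],[63,75,96,168],168),([97],[190],190),([22,98],[95,98,102,200],200),([99],[206],206),([100],[209],209),([14,101],[73,76,101,169],169),([22,102],[95,98,102,191],191),([103],[201],201),([104],[207],207),([105],[210],210),([106],[211],211),([23,109],[109,114],114),([24,110],[110,119],119),([25,111],[111,123],123),([26,112],[112,126],126),([29,116],[116,120],120),([30,117],[117,124],124),([28,128],[128,170],170),([32,129],[129,143],143),([33,130],[130,171],171),([35,131],[131,138],138),([36,132],[132,144],144),([37,133],[133,172],172),([38,135],[135,139],139),([39,136],[136,145],145),([40,137],[137,173],173),([41,141],[141,146],146),([42,142],[142,174],174),([43,148],[148,175],175)]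
    [[0,2],[1],[2,3],[1,3],[],[1,3],[2,3],[0,2],[4,47,51,60],[5,48,52,81],[6,49,62,82],[7,55,64,84],[8,58,67,87],[9,59,71,91],[10,69,72,96],[11,75],[12,76],[13,77],[14,78],[15,79],[16,80],[0,17,27],[18,90,93,97],[19,102],[20,103],[21,104],[22,105],[2,17,23,27],[24,108],[25,106],[26,107],[3,23,27],[28,109],[29,110],[1,23,27,30],[31,111],[32,112],[33,113],[34,114],[35,115],[36,116],[37,117],[38,118],[39,119],[40],[41],[42],[43],[44],[45],[46],[4,51,60],[5,52,81],[6,62,82],[50],[4,47,60],[5,48,81],[53],[54],[7,64,84],[56],[57],[8,67,87],[9,71,91],[4,47,51],[61],[6,49,82],[63],[7,55,84],[65],[66],[8,58,87],[68],[10,72,96],[70],[9,59,91],[10,69,96],[73],[74],[],[11],[12],[13],[14],[15],[16],[5,48,52],[6,49,62],[83],[7,55,64],[85],[86],[8,58,67],[88],[89],[18,93,97],[9,59,71],[92],[18,90,97],[94],[95],[10,69,72],[18,90,93],[98],[99],[100],[101],[11],[],[19],[20],[21],[22],[12],[19],[],[25],[26],[13],[20],[25],[],[14],[21],[26],[15],[22],[16],[24],[28],[29],[31],[32],[33],[],[34],[35],[36],[31],[34],[],[37],[38],[28],[32],[35],[37],[],[39],[],[],[],[],[4],[5],[],[],[4],[],[6],[4],[],[],[7],[],[],[8],[],[9],[10],[24],[29],[33],[36],[38],[39],[],[],[],[5],[6],[],[5],[],[7],[],[],[8],[],[9],[],[18],[6],[7],[],[],[8],[],[],[10],[18],[],[9],[10],[18],[],[],[],[],[],[],[],[],[],[],[],[],[],[],[],[],[],[],[],[],[],[],[],[],[],[],[],[],[],[],[],[],[],[],[],[],[],[],[],[],[],[],[]]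 = true := by decide +kernel

end Cfsg.Agent.Chevalley.InvolCert.E8
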