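import Cfsg.Agent.Lib.Chevalley.InvolCert.E8.Sys

/-! The table of type E8 is correct, checked by rows. -/

set_option autoImplicit false
set_option maxHeartbeats 2000000
set_option maxRecDepth 100000

namespace Cfsg.Agent.Chevalley.InvolCert.E8

theorem pos_ok : sys.D.posRoots = List.range' sys.base sys.N := by decide +kernel

theorem rk_ok : sys.D.rank = sys.rk ∧ sys.D.nroots = sys.nr := by decide +kernel

theorem row0_ok : (List.range' 0 12).all sys.rowChk = true := by decide +kernel

theorem mask0_ok : (List.range' 0 12).all sys.maskChk = true := by decide +kernel

theorem row12_ok : (List.range' 12 12).all sys.rowChk = true := by decide +kernel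

theorem mask12_ok : (List.range' 12 12).all sys.maskChk = true := by decide +kernel

theorem row24_ok : (List.range' 24 12).all sys.rowChk = true := by decide +kernel

theorem mask24_ok : (List.range' 24 12).all sys.maskChk = true := by decide +kernel

theorem row36_ok : (List.range' 36 12).all sys.rowChk = true := by decide +kernel

theorem mask36_ok : (List.range' 36 12).all sys.maskChk = true := by decide +kernel

theorem row48_ok : (List.range' 48 12).all sys.rowChk = true := by decide +kernel

theorem mask48_ok : (List.range' 48 12).all sys.maskChk = true := by decide +kernel

theorem row60_ok : (List.range' 60 12).all sys.rowChk = true := by decide +kernel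

theorem mask60_ok : (List.range' 60 12).all sys.maskChk = true := by decide +kernel

theorem row72_ok : (List.range' 72 12).all sys.rowChk = true := by decide +kernel

theorem mask72_ok : (List.range' 72 12).all sys.maskChk = true := by decide +kernel

theorem row84_ok : (List.range' 84 12).all sys.rowChk = true := by decide +kernel

theorem mask84_ok : (List.range' 84 12).all sys.maskChk = true := by decide +kernel

theorem row96_ok : (List.range' 96 12).all sys.rowChk = true := by decide +kernel

theorem mask96_ok : (List.range' 96 12).all sys.maskChk = true := by decide +kernel

theorem row108_ok : (List.range' 108 12).all sys.rowChk = true := by decide +kernel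

theorem mask108_ok : (List.range' 108 12).all sys.maskChk = true := by decide +kernel

theorem ref0_ok : sys.refChk 0 = true := by decide +kernel

theorem ref1_ok : sys.refChk 1 = true := by decide +kernel

theorem ref2_ok : sys.refChk 2 = true := by decide +kernel

theorem ref3_ok : sys.refChk 3 = true := by decide +kernel

theorem ref4_ok : sys.refChk 4 = true := by decide +kernel

theorem ref5_ok : sys.refChk 5 = true := by decide +kernel

theorem ref6_ok : sys.refChk 6 = true := by decide +kernel

theorem ref7_ok : sys.refChk 7 = true := by decide +kernel

theorem range_split : List.range sys.N = List.range' 0 12 ++ List.range' 12 12 ++ List.range' 24 12 ++ List.range' 36 12 ++ List.range' 48 12 ++ List.range' 60 12 ++ List.range' 72 12 ++ List.range' 84 12 ++ List.range' 96 12 ++ List.range' 108 12 := by decide +kernel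

theorem rk_val : sys.rk = 8 := rfl

theorem tbl_ok : sys.chkTbl = true := by
  simp only [Sys.chkTbl, Bool.and_eq_true, decide_eq_true_eq]
  refine ⟨⟨⟨pos_ok, ?_, ?_⟩, rk_ok⟩, ?_⟩
  · rw [range_split]
    simp only [List.all_append, row0_ok, row12_ok, row24_ok, row36_ok, row48_ok, row60_ok, row72_ok, row84_ok, row96_ok, row108_ok, Bool.and_self]
  · rw [range_split]
    simp only [List.all_append, mask0_ok, mask12_ok, mask24_ok, mask36_ok, mask48_ok, mask60_ok, mask72_ok, mask84_ok, mask96_ok, mask108_ok, Bool.and_self]
  · rw [rk_val, List.all_eq_true]
    intro i hi
    rw [List.mem_range] at hi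
    interval_cases i
    · exact ref0_ok
    · exact ref1_ok
    · exact ref2_ok
    · exact ref3_ok
    · exact ref4_ok
    · exact ref5_ok
    · exact ref6_ok
    · exact ref7_ok

end Cfsg.Agent.Chevalley.InvolCert.E8
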