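import Cfsg.Agent.Lib.Chevalley.InvolCert.Final
import Cfsg.Agent.Lib.Chevalley.InvolCert.E8.All
import Cfsg.Agent.Lib.Chevalley.InvolCert.E8.Ranks
import Cfsg.Agent.Lib.Chevalley.InvolCert.E8.Tbl
import Cfsg.Agent.Lib.Chevalley.Types.OrderE8

/-! The classes of involutions of type E8 in characteristic two. -/

set_option autoImplicit false
set_option maxRecDepth 100000

namespace Cfsg.Agent.Chevalley.InvolCert.E8

open Cfsg.Lie Cfsg.Agent.Chevalley Cfsg.Agent.Chevalley.Group

variable {K : Type*} [Field K] [CharP K 2]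

theorem classes_eq : classes = [[119], [112,113], [108,102,98], [106,100,93,96]] := by decide +kernel

/-- The representatives, in the group. -/
noncomputable abbrev y (S : List ℕ) : GL chevE8.Idx K := rep sys Types.E8.certified S

theorem sq0 : same sys (oneW [119] ++ oneW [119]) [] = true := by decide +kernel

theorem rank0 : (disp (y (K := K) [119])).rank = 58 :=
  rank_rep sys Types.E8.certified tbl_ok (n := 248) (S := [119]) rank0_ok (by decide +kernel)

theorem mem0 : y (K := K) [119] ∈ chevE8.group K ∧ orderOf (y (K := K) [119]) = 2 :=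
  ⟨rep_mem sys Types.E8.certified tbl_ok (by decide),
    order_two sys Types.E8.certified tbl_ok sq0 rank0 (by norm_num)⟩

theorem coe0 : ((y (K := K) [119] : GL chevE8.Idx K) : Matrix chevE8.Idx chevE8.Idx K) =
    chevE8.x K 239 1 := by
  rw [y, rep_eq sys Types.E8.certified tbl_ok]
  show (((xg Types.E8.certified 239 (1 : K) * 1) : GL chevE8.Idx K) : Matrix chevE8.Idx chevE8.Idx K) = _
  simp [mul_assoc]

theorem sq1 : same sys (oneW [112,113] ++ oneW [112,113]) [] = true := by decide +kernel

theorem rank1 : (disp (y (K := K) [112,113])).rank = 92 :=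
  rank_rep sys Types.E8.certified tbl_ok (n := 248) (S := [112,113]) rank1_ok (by decide +kernel)

theorem mem1 : y (K := K) [112,113] ∈ chevE8.group K ∧ orderOf (y (K := K) [112,113]) = 2 :=
  ⟨rep_mem sys Types.E8.certified tbl_ok (by decide),
    order_two sys Types.E8.certified tbl_ok sq1 rank1 (by norm_num)⟩

theorem coe1 : ((y (K := K) [112,113] : GL chevE8.Idx K) : Matrix chevE8.Idx chevE8.Idx K) =
    chevE8.x K 232 1 * chevE8.x K 233 1 := by
  rw [y, rep_eq sys Types.E8.certified tbl_ok]
  show (((xg Types.E8.certified 232 (1 : K) * (xg Types.E8.certified 233 (1 : K) * 1)) : GL chevE8.Idx K) : Matrix chevE8.Idx chevE8.Idx K) = _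
  simp [mul_assoc]

theorem sq2 : same sys (oneW [108,102,98] ++ oneW [108,102,98]) [] = true := by decide +kernel

theorem rank2 : (disp (y (K := K) [108,102,98])).rank = 110 :=
  rank_rep sys Types.E8.certified tbl_ok (n := 248) (S := [108,102,98]) rank2_ok (by decide +kernel)

theorem mem2 : y (K := K) [108,102,98] ∈ chevE8.group K ∧ orderOf (y (K := K) [108,102,98]) = 2 :=
  ⟨rep_mem sys Types.E8.certified tbl_ok (by decide),
    order_two sys Types.E8.certified tbl_ok sq2 rank2 (by norm_num)⟩

theorem coe2 : ((y (K := K) [108,102,98] : GL chevE8.Idx K) : Matrix chevE8.Idx chevE8.Idx K) =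
    chevE8.x K 228 1 * chevE8.x K 222 1 * chevE8.x K 218 1 := by
  rw [y, rep_eq sys Types.E8.certified tbl_ok]
  show (((xg Types.E8.certified 228 (1 : K) * (xg Types.E8.certified 222 (1 : K) * (xg Types.E8.certified 218 (1 : K) * 1))) : GL chevE8.Idx K) : Matrix chevE8.Idx chevE8.Idx K) = _
  simp [mul_assoc]

theorem sq3 : same sys (oneW [106,100,93,96] ++ oneW [106,100,93,96]) [] = true := by decide +kernel

theorem rank3 : (disp (y (K := K) [106,100,93,96])).rank = 120 :=
  rank_rep sys Types.E8.certified tbl_ok (n := 248) (S := [106,100,93,96]) rank3_ok (by decide +kernel)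

theorem mem3 : y (K := K) [106,100,93,96] ∈ chevE8.group K ∧ orderOf (y (K := K) [106,100,93,96]) = 2 :=
  ⟨rep_mem sys Types.E8.certified tbl_ok (by decide),
    order_two sys Types.E8.certified tbl_ok sq3 rank3 (by norm_num)⟩

theorem coe3 : ((y (K := K) [106,100,93,96] : GL chevE8.Idx K) : Matrix chevE8.Idx chevE8.Idx K) =
    chevE8.x K 226 1 * chevE8.x K 220 1 * chevE8.x K 213 1 * chevE8.x K 216 1 := by
  rw [y, rep_eq sys Types.E8.certified tbl_ok]
  show (((xg Types.E8.certified 226 (1 : K) * (xg Types.E8.certified 220 (1 : K) * (xg Types.E8.certified 213 (1 : K) * (xg Types.E8.certified 216 (1 : K) * 1)))) : GL chevE8.Idx K) : Matrix chevE8.Idx chevE8.Idx K) = _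
  simp [mul_assoc]

theorem top_free : ∀ i < sys.N, fl 1177898043185589553055531667161945677218322597917079305414404134195079850 i = 2 := by decide +kernel

theorem classify [Fintype K] {g : GL chevE8.Idx K} (hg : g ∈ chevE8.group K) (h2 : orderOf g = 2) :
    ∃ S ∈ classes, Cj sys g (y (K := K) S) :=
  exists_rep sys Types.E8.certified tbl_ok table_ok top_st (by norm_num) top_free chains_ok
    (exists_conj_U sys Types.E8.certified tbl_ok (Types.OrderE8.card_group K) (by decide)) hg h2

end Cfsg.Agent.Chevalley.InvolCert.E8
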