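import Cfsg.Agent.Lib.Chevalley.InvolCert.E8.Data0
import Cfsg.Agent.Lib.Chevalley.InvolCert.E8.Data1
import Cfsg.Agent.Lib.Chevalley.InvolCert.E8.Data2
import Cfsg.Agent.Lib.Chevalley.InvolCert.E8.Data3
import Cfsg.Agent.Lib.Chevalley.InvolCert.E8.Sys

/-! The certificate of type E8. -/

set_option autoImplicit false
set_option maxRecDepth 100000

namespace Cfsg.Agent.Chevalley.InvolCert.E8

/-- The nodes. -/
def table : NTable := [
  c0, c1, c2, c3, c4, c5, c6, c7, c8, c9,
  c10, c11, c12, c13, c14, c15, c16, c17, c18, c19,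
  c20, c21, c22, c23, c24, c25, c26, c27, c28, c29,
  c30, c31, c32, c33, c34, c35, c36, c37, c38, c39,
  c40, c41, c42, c43, c44, c45, c46, c47, c48, c49,
  c50, c51, c52, c53, c54, c55, c56, c57, c58, c59,
  c60, c61, c62, c63, c64, c65, c66, c67, c68, c69,
  c70, c71, c72, c73]

end Cfsg.Agent.Chevalley.InvolCert.E8
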